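import Cfsg.Agent.Lib.Char.ExtraExt.Hol
import Mathlib

/-!
Odd order automorphism groups of an extraspecial two-group: averaging, orthogonal fixed subgroups,
and generation by fixed subgroups.
-/

set_option autoImplicit false
set_option linter.unusedSectionVars false
open scoped commutatorElement
open Cfsg

namespace Cfsg.Agent.Char.ExtraExt

universe u

variable {E : Type u} [Group E] [Finite E]

/-- The fixed subgroup of a set of automorphisms. -/
def fix (S : Subgroup (MulAut E)) : Subgroup E where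
  carrier := {x | ∀ s ∈ S, (s : MulAut E) x = x}
  one_mem' := fun s _ => map_one s
  mul_mem' := fun ha hb s hs => by rw [map_mul, ha s hs, hb s hs]
  inv_mem' := fun ha s hs => by rw [map_inv, ha s hs]

theorem mem_fix {S : Subgroup (MulAut E)} {x : E} : x ∈ fix S ↔ ∀ s ∈ S, (s : MulAut E) x = x :=
  Iff.rfl

theorem fix_anti {S R : Subgroup (MulAut E)} (h : S ≤ R) : fix R ≤ fix S := fun _ hx s hs => hx s (h hs)

theorem fix_map {S : Subgroup (MulAut E)} (g : MulAut E) {x : E} :
    g x ∈ fix (S.map (MulAut.conj g).toMonoidHom) ↔ x ∈ fix S := by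
  constructor
  · intro h s hs
    have := h _ (Subgroup.mem_map_of_mem _ hs)
    simpa using this
  · rintro h - ⟨s, hs, rfl⟩
    simp [h s hs]

theorem apply_mem_fix {S : Subgroup (MulAut E)} {g : MulAut E} (hg : g ∈ Subgroup.normalizer (S : Set (MulAut E)))
    {x : E} : g x ∈ fix S ↔ x ∈ fix S := by
  have h : ∀ g ∈ Subgroup.normalizer (S : Set (MulAut E)), ∀ x ∈ fix S, (g : MulAut E) x ∈ fix S := by
    intro g hg x hx s hs
    have h1 : g⁻¹ * s * g ∈ S := by
      have := (Subgroup.mem_normalizer_iff.1 (inv_mem hg) s).1 hs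
      simpa using this
    have h2 := hx _ h1
    rw [MulAut.mul_apply, MulAut.mul_apply] at h2
    have h3 := congrArg g h2
    rwa [MulAut.apply_inv_self] at h3
  exact ⟨fun hx => by simpa using h g⁻¹ (inv_mem hg) _ hx, h g hg x⟩

variable (hE : IsExtraspecial 2 E)
include hE

theorem commutator_mem_center (x y : E) : ⁅x, y⁆ ∈ Subgroup.center E :=
  hE.1.2.2 ▸ Subgroup.commutator_mem_commutator (Subgroup.mem_top x) (Subgroup.mem_top y)

theorem center_le_fix (S : Subgroup (MulAut E)) : Subgroup.center E ≤ fix S :=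
  fun _ hz s _ => center_fixed hE s hz

theorem sq_eq_one_of_center {z : E} (hz : z ∈ Subgroup.center E) : z ^ 2 = 1 := by
  have h : (⟨z, hz⟩ : Subgroup.center E) ^ Nat.card (Subgroup.center E) = 1 := pow_card_eq_one'
  rw [hE.2] at h
  exact congrArg Subtype.val h

theorem sq_mem_center (x : E) : x ^ 2 ∈ Subgroup.center E := by
  haveI : Fact (Nat.Prime 2) := ⟨Nat.prime_two⟩
  exact Cfsg.Agent.Solv.extraspecial_pow_mem_center hE x

/-- Fixed points modulo the centre of an element of odd order are fixed points. -/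
theorem fixed_of_center {α : MulAut E} (hα : Odd (orderOf α)) {d : E}
    (hd : (α d)⁻¹ * d ∈ Subgroup.center E) : α d = d := by
  set c := (α d)⁻¹ * d with hc
  have hkd : α d = d * c⁻¹ := by rw [hc]; group
  have hpow : ∀ i : ℕ, (α ^ i) d = d * c⁻¹ ^ i := by
    intro i
    induction i with
    | zero => simp
    | succ i ih =>
      rw [pow_succ', MulAut.mul_apply, ih, map_mul, map_pow, center_fixed hE α (inv_mem hd), hkd,
        mul_assoc, ← pow_succ']
  have h2 := hpow (orderOf α)
  rw [pow_orderOf_eq_one, MulAut.one_apply] at h2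
  have h3 : c⁻¹ ^ orderOf α = 1 := left_eq_mul.1 h2
  obtain ⟨t, ht⟩ := hα
  rw [ht, pow_add, pow_mul, sq_eq_one_of_center hE (inv_mem hd), one_pow, one_mul, pow_one] at h3
  rw [hkd, h3, mul_one]

theorem odd_orderOf_of_mem {N : Subgroup (MulAut E)} (hN : Odd (Nat.card N)) {s : MulAut E} (hs : s ∈ N) :
    Odd (orderOf s) :=
  hN.of_dvd_nat (Subgroup.orderOf_mk s hs ▸ orderOf_dvd_natCard (⟨s, hs⟩ : N))

/-- Averaging over an odd order group of automorphisms. -/
theorem exists_average (N : Subgroup (MulAut E)) [Fintype N] (hN : Odd (Nat.card N)) (x : E) :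
    ∃ d ∈ fix N,
      (∀ L : Subgroup (MulAut E), Odd (Nat.card L) → (∀ l ∈ L, ∀ s ∈ N, l * s = s * l) → x ∈ fix L →
        d ∈ fix L) ∧
      ∀ {A : Type u} [CommGroup A] (φ : E →* A), φ d = ∏ s : N, φ ((s : MulAut E) x) := by
  classical
  let π : E →* Abelianization E := Abelianization.of
  obtain ⟨d, hd⟩ := (show Function.Surjective π from fun t => Quot.exists_rep t)
    (∏ s : N, π ((s : MulAut E) x))
  have hd' : π d = ∏ s : N, π ((s : MulAut E) x) := hd
  have hlift : ∀ {A : Type u} [CommGroup A] (φ : E →* A), φ d = ∏ s : N, φ ((s : MulAut E) x) := by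
    intro A _ φ
    have h := congrArg (Abelianization.lift φ) hd'
    simpa [π, map_prod] using h
  have hsame : ∀ a b : E, π a = π b → a⁻¹ * b ∈ Subgroup.center E := fun a b h => by
    rw [← hE.1.2.2, ← Abelianization.ker_of, MonoidHom.mem_ker, map_mul, map_inv]
    exact inv_mul_eq_one.2 h
  refine ⟨d, fun t ht => fixed_of_center hE (odd_orderOf_of_mem hE hN ht) (hsame _ _ ?_),
    fun L hL hcom hx l hl => fixed_of_center hE (odd_orderOf_of_mem hE hL hl) (hsame _ _ ?_), hlift⟩
  · rw [show π (t d) = (π.comp t.toMonoidHom) d from rfl, hlift, hd']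
    exact Fintype.prod_equiv (Equiv.mulLeft (⟨t, ht⟩ : N)) _ _ fun s => rfl
  · rw [show π (l d) = (π.comp l.toMonoidHom) d from rfl, hlift, hd']
    refine Finset.prod_congr rfl fun s _ => ?_
    show π (l ((s : MulAut E) x)) = π ((s : MulAut E) x)
    rw [show l ((s : MulAut E) x) = (l * (s : MulAut E)) x from rfl, hcom l hl s s.2, MulAut.mul_apply,
      hx l hl]

omit hE in
/-- Commutators with a fixed element, as a homomorphism into the centre. -/
theorem exists_commHom (hE : IsExtraspecial 2 E) (y : E) :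
    ∃ φ : E →* Subgroup.center E, ∀ e, (φ e : E) = ⁅e, y⁆ := by
  refine ⟨MonoidHom.mk' (fun e => ⟨⁅e, y⁆, commutator_mem_center hE e y⟩) fun a b => Subtype.ext ?_,
    fun e => rfl⟩
  show ⁅a * b, y⁆ = ⁅a, y⁆ * ⁅b, y⁆
  have hc := Subgroup.mem_center_iff.1 (commutator_mem_center hE b y)
  calc ⁅a * b, y⁆ = a * ⁅b, y⁆ * a⁻¹ * ⁅a, y⁆ := by simp only [commutatorElement_def]; group
    _ = ⁅b, y⁆ * ⁅a, y⁆ := by rw [hc a, mul_inv_cancel_right]
    _ = ⁅a, y⁆ * ⁅b, y⁆ := (hc _).symm

theorem center_pow_odd (z : Subgroup.center E) {k : ℕ} (hk : Odd k) : z ^ k = z := by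
  obtain ⟨t, rfl⟩ := hk
  rw [pow_add, pow_mul, show z ^ 2 = 1 from Subtype.ext (sq_eq_one_of_center hE z.2), one_pow, one_mul,
    pow_one]

/-- Fixed subgroups with trivial common part commute. -/
theorem fix_commute (L M : Subgroup (MulAut E)) (hL : Odd (Nat.card L)) (hM : Odd (Nat.card M))
    (hcom : ∀ l ∈ L, ∀ s ∈ M, l * s = s * l) (hLM : fix (L ⊔ M) ≤ Subgroup.center E)
    {x y : E} (hx : x ∈ fix L) (hy : y ∈ fix M) : x * y = y * x := by
  classical
  haveI := Fintype.ofFinite M
  letI : CommGroup (Subgroup.center E) := { (inferInstance : Group (Subgroup.center E)) with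
    mul_comm := fun u v => Subtype.ext (Subgroup.mem_center_iff.1 v.2 u) }
  obtain ⟨φ, hφ⟩ := exists_commHom hE y
  obtain ⟨d, hd, hdL, hdφ⟩ := exists_average hE M hM x
  have hdc : d ∈ Subgroup.center E := by
    refine hLM fun s hs => ?_
    have hle : L ⊔ M ≤ (MulAction.stabilizer (MulAut E) d) :=
      sup_le (fun l hl => hdL L hL hcom hx l hl) (fun l hl => hd l hl)
    exact hle hs
  have h := hdφ φ
  rw [show φ d = 1 from Subtype.ext (by
    rw [hφ]; exact commutatorElement_eq_one_iff_mul_comm.2 (Subgroup.mem_center_iff.1 hdc y).symm),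
    Finset.prod_congr rfl (g := fun _ => φ x) (fun s _ => Subtype.ext (by
      rw [hφ, hφ]
      conv_lhs => rw [← hy (s : MulAut E) s.2]
      rw [← map_commutatorElement, center_fixed hE _ (commutator_mem_center hE x y)])),
    Finset.prod_const, Finset.card_univ, ← Nat.card_eq_fintype_card, center_pow_odd hE _ hM] at h
  rw [← commutatorElement_eq_one_iff_mul_comm, ← hφ, ← h]
  rfl

/-- An odd order group of automorphisms splits off its fixed subgroup. -/
theorem sup_centralizer_fix (N : Subgroup (MulAut E)) (hN : Odd (Nat.card N)) :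
    Subgroup.centralizer (fix N : Set E) ⊔ fix N = ⊤ := by
  classical
  haveI := Fintype.ofFinite N
  letI : CommGroup (Subgroup.center E) := { (inferInstance : Group (Subgroup.center E)) with
    mul_comm := fun u v => Subtype.ext (Subgroup.mem_center_iff.1 v.2 u) }
  refine eq_top_iff.2 fun x _ => ?_
  obtain ⟨d, hd, -, hdφ⟩ := exists_average hE N hN x
  have hc : x * d⁻¹ ∈ Subgroup.centralizer (fix N : Set E) := by
    intro y hy
    obtain ⟨φ, hφ⟩ := exists_commHom hE y
    have h := hdφ φ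
    rw [Finset.prod_congr rfl (g := fun _ => φ x) (fun s _ => Subtype.ext (by
        rw [hφ, hφ]
        conv_lhs => rw [← hy (s : MulAut E) s.2]
        rw [← map_commutatorElement, center_fixed hE _ (commutator_mem_center hE x y)])),
      Finset.prod_const, Finset.card_univ, ← Nat.card_eq_fintype_card, center_pow_odd hE _ hN] at h
    have h1 : φ (x * d⁻¹) = 1 := by rw [map_mul, map_inv, h, mul_inv_cancel]
    have h2 := congrArg Subtype.val h1
    rw [hφ, OneMemClass.coe_one, commutatorElement_eq_one_iff_mul_comm] at h2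
    exact h2.symm
  rw [show x = x * d⁻¹ * d by group]
  exact mul_mem (Subgroup.mem_sup_left hc) (Subgroup.mem_sup_right hd)

/-- Two independent elements of odd prime order: fixed points of a subgroup they centralise are generated
by fixed points of larger subgroups. -/
theorem generated_by_fix {q : ℕ} [hq : Fact q.Prime] (hq2 : q ≠ 2) {a b : MulAut E} (hab : a * b = b * a)
    (haq : a ^ q = 1) (hbq : b ^ q = 1) (S : Subgroup (MulAut E)) (hS : Odd (Nat.card S))
    (haS : ∀ s ∈ S, s * a = a * s) (hbS : ∀ s ∈ S, s * b = b * s) (ha1 : a ∉ S)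
    (hb : b ∉ S ⊔ Subgroup.zpowers a) (W : Subgroup E) (hW : Subgroup.center E ≤ W)
    (hfixW : ∀ c : MulAut E, (∃ i j : ℕ, c = a ^ i * b ^ j) → c ∉ S →
      fix (S ⊔ Subgroup.zpowers c) ≤ W) {x : E} (hx : x ∈ fix S) : x ∈ W := by
  classical
  have hWc : commutator E ≤ W := hE.1.2.2 ▸ hW
  haveI hWn : W.Normal := ⟨fun w hw g => by
    have h : ⁅g, w⁆ * w ∈ W :=
      W.mul_mem (hWc (Subgroup.commutator_mem_commutator (Subgroup.mem_top _) (Subgroup.mem_top _))) hw
    rwa [commutatorElement_def, inv_mul_cancel_right] at h⟩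
  letI : CommGroup (E ⧸ W) := { (inferInstance : Group (E ⧸ W)) with
    mul_comm := fun x y => by
      induction x using QuotientGroup.induction_on with
      | H x => induction y using QuotientGroup.induction_on with
        | H y =>
          rw [← QuotientGroup.mk_mul, ← QuotientGroup.mk_mul, QuotientGroup.eq,
            show (x * y)⁻¹ * (y * x) = ⁅y⁻¹, x⁻¹⁆ by rw [commutatorElement_def]; group]
          exact hWc (Subgroup.commutator_mem_commutator (Subgroup.mem_top _) (Subgroup.mem_top _)) }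
  let π : E →* E ⧸ W := QuotientGroup.mk' W
  have hqodd : Odd q := hq.out.odd_of_ne_two hq2
  have hcyc : ∀ c : MulAut E, (∃ i j : ℕ, c = a ^ i * b ^ j) → c ∉ S → ∀ y ∈ fix S,
      ∏ j : ZMod q, π ((c ^ j.val) y) = 1 := by
    intro c hc hcS y hy
    have hc1 : c ≠ 1 := fun h => hcS (h ▸ one_mem S)
    have hScom : ∀ l ∈ S, ∀ s ∈ Subgroup.zpowers c, l * s = s * l := by
      obtain ⟨i, j, rfl⟩ := hc
      rintro l hl - ⟨k, rfl⟩
      exact ((show Commute l a from haS l hl).pow_right i |>.mul_right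
        ((show Commute l b from hbS l hl).pow_right j)).zpow_right k
    have hcq : c ^ q = 1 := by
      obtain ⟨i, j, rfl⟩ := hc
      rw [(Commute.pow_pow hab i j).mul_pow, ← pow_mul, ← pow_mul, mul_comm i, mul_comm j, pow_mul,
        pow_mul, haq, hbq, one_pow, one_pow, one_mul]
    have hord : orderOf c = q := (hq.out.eq_one_or_self_of_dvd _ (orderOf_dvd_of_pow_eq_one hcq)).resolve_left
      (by simpa using hc1)
    haveI := Fintype.ofFinite (Subgroup.zpowers c)
    obtain ⟨d, hd, hdS, hdφ⟩ := exists_average hE (Subgroup.zpowers c)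
      (by rw [Nat.card_zpowers, hord]; exact hqodd) y
    have hdS' : d ∈ fix (S ⊔ Subgroup.zpowers c) := fun t ht =>
      (sup_le (fun l hl => hdS S hS hScom hy l hl) (fun l hl => hd l hl) :
        S ⊔ Subgroup.zpowers c ≤ MulAction.stabilizer (MulAut E) d) ht
    have h1 : π d = 1 := (QuotientGroup.eq_one_iff d).2 (hfixW c hc hcS hdS')
    rw [hdφ π] at h1
    refine Eq.trans ?_ h1
    refine Fintype.prod_bijective (fun j : ZMod q => (⟨c ^ j.val, pow_mem (Subgroup.mem_zpowers c) _⟩ :
      Subgroup.zpowers c)) ?_ _ _ fun j => rfl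
    refine (Fintype.bijective_iff_injective_and_card _).2 ⟨fun j j' hjj => ?_, ?_⟩
    · have h := congrArg Subtype.val hjj
      refine ZMod.val_injective q (pow_injOn_Iio_orderOf ?_ ?_ h)
      · rw [Set.mem_Iio, hord]; exact j.val_lt
      · rw [Set.mem_Iio, hord]; exact j'.val_lt
    · rw [ZMod.card, ← Nat.card_eq_fintype_card, Nat.card_zpowers, hord]
  have hmod : ∀ (i : ℕ) (g : MulAut E), g ^ q = 1 → g ^ (i % q) = g ^ i := fun i g hg =>
    (pow_eq_pow_mod i hg).symm
  have hab' : ∀ l : ℕ, a * b ^ l ∉ S := fun l h => by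
    have h1 : b ^ l ∈ S ⊔ Subgroup.zpowers a := by
      rw [show b ^ l = a⁻¹ * (a * b ^ l) by group]
      exact mul_mem (inv_mem (Subgroup.mem_sup_right (Subgroup.mem_zpowers a))) (Subgroup.mem_sup_left h)
    have hl : ¬ q ∣ l := by
      rintro ⟨t, rfl⟩
      rw [pow_mul, hbq, one_pow, mul_one] at h
      exact ha1 h
    obtain ⟨m, -, hm⟩ := Nat.exists_mul_mod_eq_of_coprime 1 ((hq.out.coprime_iff_not_dvd.2 hl).symm) hq.out.ne_zero
    refine hb ?_
    have : b = (b ^ l) ^ m := by
      rw [← pow_mul, ← hmod (l * m) b hbq, hm, Nat.one_mod_eq_one.2 hq.out.ne_one, pow_one]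
    rw [this]
    exact pow_mem h1 _
  have hbS' : b ∉ S := fun h => hb (Subgroup.mem_sup_left h)
  refine (QuotientGroup.eq_one_iff x).1 ?_
  show π x = 1
  let P : ZMod q → ZMod q → E ⧸ W := fun j l => π ((a ^ j.val * b ^ l.val) x)
  have hrow : ∀ l : ZMod q, ∏ j, P j l = 1 := fun l => by
    have hy : (b ^ l.val) x ∈ fix S := fun t ht => by
      rw [show t ((b ^ l.val) x) = (t * b ^ l.val) x from rfl, ((show Commute t b from hbS t ht).pow_right _).eq,
        MulAut.mul_apply, hx t ht]
    rw [← hcyc a ⟨1, 0, by simp⟩ ha1 _ hy]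
    rfl
  have hcol : ∏ l, P 0 l = 1 := by
    rw [← hcyc b ⟨0, 1, by simp⟩ hbS' x hx]
    simp [P]
  have hdiag : ∏ i, ∏ j, P j (j * i) = 1 := by
    refine Finset.prod_eq_one fun i _ => ?_
    rw [← hcyc (a * b ^ i.val) ⟨1, i.val, by simp⟩ (hab' _) x hx]
    refine Finset.prod_congr rfl fun j _ => ?_
    simp only [P]
    rw [(Commute.pow_right hab i.val).mul_pow, ← pow_mul, ZMod.val_mul, hmod _ b hbq, mul_comm j.val]
  rw [Finset.prod_comm, Finset.prod_eq_mul_prod_sdiff_singleton_of_mem (Finset.mem_univ (0 : ZMod q))] at hdiag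
  have hsd : ∀ j ∈ Finset.univ \ {(0 : ZMod q)}, ∏ i, P j (j * i) = ∏ l, P j l := fun j hj => by
    have hj0 : j ≠ 0 := by simpa using hj
    exact Fintype.prod_equiv (Equiv.mulLeft₀ j hj0) _ _ fun i => rfl
  rw [Finset.prod_congr rfl hsd] at hdiag
  have htot : ∏ j, ∏ l, P j l = 1 := by
    rw [Finset.prod_comm]
    exact Finset.prod_eq_one fun l _ => hrow l
  rw [Finset.prod_eq_mul_prod_sdiff_singleton_of_mem (Finset.mem_univ (0 : ZMod q)), hcol, one_mul] at htot
  rw [htot, mul_one] at hdiag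
  have hxq : π x ^ q = 1 := by
    rw [← hdiag]
    simp [P]
  have hx2 : π x ^ 2 = 1 := by
    rw [← map_pow]
    exact (QuotientGroup.eq_one_iff _).2 (hW (sq_mem_center hE x))
  obtain ⟨t, ht⟩ := hqodd
  rw [ht, pow_add, pow_mul, hx2, one_pow, one_mul, pow_one] at hxq
  exact hxq

end Cfsg.Agent.Char.ExtraExt
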