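import Cfsg.Agent.Lib.Char.ExtraExt.LamPart
import Cfsg.Agent.Lib.Char.ExtendSylow
import Cfsg.Agent.Lib.Char.RestrictIrred
import Mathlib

/-!
A normalised extension over a complement centralising a subgroup on which the character has an
isotypic part of suitable dimension.
-/

set_option autoImplicit false
set_option linter.unusedSectionVars false
set_option linter.style.haveILetI false
open scoped ComplexConjugate
open Cfsg Module

namespace Cfsg.Agent.Char.ExtraExt

universe u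

variable {G : Type u} [Group G] [Fintype G] (M C K : Subgroup G)

/-- The multiplication of two elementwise commuting subgroups. -/
def pairHom (h : ∀ c ∈ C, ∀ k ∈ K, c * k = k * c) : C × K →* G where
  toFun p := (p.1 : G) * p.2
  map_one' := by simp
  map_mul' p q := by
    simp only [Prod.fst_mul, Prod.snd_mul, Subgroup.coe_mul]
    rw [mul_assoc (p.1 : G) q.1, ← mul_assoc (q.1 : G), h q.1 q.1.2 p.2 p.2.2]
    group

/-- The normalisation of an extension: the isotypic part on `C` has trivial determinant. -/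
def Normalised [Fintype C] [Fintype K] (lam : K →* ℂˣ) (χ : G → ℂ) : Prop :=
  detChar (lamPart lam fun p : C × K => χ ((p.1 : G) * p.2)) = fun _ => 1

variable {M C K}

theorem lamPart_value [Fintype C] [Fintype K] (lam : K →* ℂˣ) {χ : G → ℂ} {θ : M → ℂ}
    (hKM : K ≤ M) (hres : ∀ n : M, χ n = θ n) {m : ℕ}
    (hm : (Nat.card K : ℂ)⁻¹ * ∑ k : K, (lam k⁻¹ : ℂ) * θ (Subgroup.inclusion hKM k) = m) :
    lamPart lam (fun p : C × K => χ ((p.1 : G) * p.2)) 1 = m := by
  rw [lamPart_one, ← hm]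
  congr 1
  refine Finset.sum_congr rfl fun k _ => ?_
  simp only [OneMemClass.coe_one, one_mul, ← hres, Subgroup.coe_inclusion]

variable [M.Normal]

theorem exists_normalised [Fintype K] [Fintype C] (hcompl : Subgroup.IsComplement' M C)
    (hcomm : ∀ c ∈ C, ∀ k ∈ K, c * k = k * c) (hKM : K ≤ M) {θ : M → ℂ}
    (hθ : IsIrrCharacter M θ) (hinv : ∀ (g : G) (n : M), θ (MulAut.conjNormal g n) = θ n)
    (d : ℕ) (hd : θ 1 = d) (lam : K →* ℂˣ) (m : ℕ)
    (hm : (Nat.card K : ℂ)⁻¹ * ∑ k : K, (lam k⁻¹ : ℂ) * θ (Subgroup.inclusion hKM k) = m)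
    (hmd : m.Coprime d) (hmC : m.Coprime (Nat.card C)) :
    ∃ χ : G → ℂ, IsIrrCharacter G χ ∧ (∀ n : M, χ n = θ n) ∧ Normalised C K lam χ := by
  classical
  obtain ⟨d', σ, hσ, rfl⟩ := id hθ
  haveI := hσ
  obtain rfl : d' = d := by
    rw [char_one_eq_dim σ rfl] at hd
    exact_mod_cast hd
  have hd0 : d' ≠ 0 := fun h0 => irr_one_ne_zero hθ (by simp [h0])
  haveI : Nontrivial (Fin d' → ℂ) := Module.nontrivial_of_finrank_pos (R := ℂ)
    (by rw [Module.finrank_fin_fun]; omega)
  haveI : Finite (projCover σ) := finite_projCover σ hd0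
  let Q : Subgroup (projCover σ) := C.comap (coverProj σ)
  haveI : Fintype Q := Fintype.ofFinite Q
  let q : Q →* C := ((coverProj σ).comp Q.subtype).codRestrict C fun h => h.2
  have hq : Function.Surjective q := fun c => by
    obtain ⟨h, hh⟩ := coverProj_surjective σ hd0 hinv (c : G)
    exact ⟨⟨h, show coverProj σ h ∈ C from hh ▸ c.2⟩, Subtype.ext hh⟩
  let P : Q →* (Module.End ℂ (Fin d' → ℂ))ˣ :=
    (MonoidHom.snd G _).comp ((projCover σ).subtype.comp Q.subtype)
  have hP : ∀ (h : Q) (n : M), (P h : Module.End ℂ (Fin d' → ℂ)) * σ n =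
      σ (MulAut.conjNormal (q h : G) n) * (P h : Module.End ℂ (Fin d' → ℂ)) :=
    fun h n => ((mem_projCover_iff σ _).1 h.1.2).1 n
  have hPk : ∀ (h : Q) (k : K), (P h : Module.End ℂ (Fin d' → ℂ)) * σ (Subgroup.inclusion hKM k) =
      σ (Subgroup.inclusion hKM k) * (P h : Module.End ℂ (Fin d' → ℂ)) := fun h k => by
    rw [hP]
    congr 2
    apply Subtype.ext
    rw [MulAut.conjNormal_apply, Subgroup.coe_inclusion, hcomm _ (q h).2 _ k.2, mul_inv_cancel_right]
  let r : Representation ℂ (Q × K) (Fin d' → ℂ) :=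
    { toFun := fun p => (P p.1 : Module.End ℂ (Fin d' → ℂ)) * σ (Subgroup.inclusion hKM p.2)
      map_one' := by simp
      map_mul' := fun a b => by
        simp only [Prod.fst_mul, Prod.snd_mul, map_mul, Units.val_mul]
        rw [mul_assoc (P a.1 : Module.End ℂ (Fin d' → ℂ)) (P b.1 : Module.End ℂ (Fin d' → ℂ)),
          ← mul_assoc (P b.1 : Module.End ℂ (Fin d' → ℂ)) (σ _), hPk]
        simp only [mul_assoc] }
  obtain ⟨mQ, ρQ, hρQ⟩ := isCharacter_lamPart lam (isCharacter_character r)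
  obtain rfl : mQ = m := by
    have h1 : ρQ.character 1 = (m : ℂ) := by
      rw [hρQ, lamPart_one, ← hm]
      congr 1
    rw [char_one_eq_dim ρQ rfl] at h1
    exact_mod_cast h1
  obtain ⟨j, -, hj⟩ := Nat.exists_mul_mod_eq_of_coprime 1 hmd hd0
  -- the scalar kernel
  have hker : ∀ h : Q, q h = 1 → ∃ s : ℂ, s ^ d' = 1 ∧
      (P h : Module.End ℂ (Fin d' → ℂ)) = s • LinearMap.id ∧ (detHom ρQ h : ℂ) = s ^ mQ := by
    intro h hh
    obtain ⟨s, hs⟩ := schur_scalar σ (P h : Module.End ℂ (Fin d' → ℂ)) fun n => by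
      show (P h : Module.End ℂ (Fin d' → ℂ)) * σ n = σ n * (P h : Module.End ℂ (Fin d' → ℂ))
      rw [hP, hh]
      simp
    have hdet : LinearMap.det (P h : Module.End ℂ (Fin d' → ℂ)) = 1 :=
      ((mem_projCover_iff σ _).1 h.1.2).2
    rw [hs, LinearMap.det_smul, LinearMap.det_id, mul_one, Module.finrank_fin_fun] at hdet
    refine ⟨s, hdet, hs, det_scalar ρQ (Complex.norm_eq_one_of_pow_eq_one hdet hd0) ?_⟩
    have e1 : ρQ.character 1 = (mQ : ℂ) := char_one_eq_dim ρQ rfl
    rw [hρQ] at e1 ⊢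
    rw [← e1]
    simp only [lamPart, Finset.mul_sum]
    refine Finset.sum_congr rfl fun k _ => ?_
    have e : r.character (h, k) = s * r.character (1, k) := by
      show LinearMap.trace ℂ _ ((P h : Module.End ℂ (Fin d' → ℂ)) * σ (Subgroup.inclusion hKM k)) =
        s * LinearMap.trace ℂ _ ((P 1 : Module.End ℂ (Fin d' → ℂ)) * σ (Subgroup.inclusion hKM k))
      rw [hs, map_one, Units.val_one, one_mul, ← Module.End.one_eq_id, smul_one_mul, map_smul,
        smul_eq_mul]
    rw [e]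
    ring
  let μ : Q →* ℂˣ := detHom ρQ ^ j
  let F : Q →* (Module.End ℂ (Fin d' → ℂ))ˣ := MonoidHom.mk'
    (fun h => Units.map (algebraMap ℂ (Module.End ℂ (Fin d' → ℂ))).toMonoidHom (μ h)⁻¹ * P h)
    (fun a b => Units.ext (by
      simp only [map_mul, mul_inv, Units.val_mul, Units.coe_map, RingHom.toMonoidHom_eq_coe,
        MonoidHom.coe_coe]
      rw [mul_assoc, mul_assoc]
      congr 1
      rw [← mul_assoc, Algebra.commutes, mul_assoc]))
  have hFker : q.ker ≤ F.ker := by
    intro h hh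
    rw [MonoidHom.mem_ker] at hh ⊢
    obtain ⟨s, hs1, hs2, hs3⟩ := hker h hh
    apply Units.ext
    show algebraMap ℂ (Module.End ℂ (Fin d' → ℂ)) (((μ h)⁻¹ : ℂˣ) : ℂ) * (P h : Module.End ℂ _) = 1
    have hμ : (μ h : ℂ) = s := by
      show ((detHom ρQ ^ j) h : ℂ) = s
      rw [MonoidHom.pow_apply, Units.val_pow_eq_pow_val, hs3, ← pow_mul, pow_eq_pow_mod _ hs1, hj,
        ← pow_eq_pow_mod _ hs1, pow_one]
    have hs0 : s ≠ 0 := hμ ▸ Units.ne_zero _
    rw [hs2, Units.val_inv_eq_inv_val, hμ, Algebra.algebraMap_eq_smul_one, ← Module.End.one_eq_id,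
      smul_mul_smul_comm, one_mul, inv_mul_cancel₀ hs0, one_smul]
  let R : C →* (Module.End ℂ (Fin d' → ℂ))ˣ := q.liftOfSurjective hq ⟨F, hFker⟩
  have hR : ∀ h, R (q h) = F h := fun h =>
    MonoidHom.liftOfRightInverse_comp_apply _ _ _ ⟨F, hFker⟩ h
  have hRn : ∀ (c : C) (n : M), (R c : Module.End ℂ (Fin d' → ℂ)) * σ n =
      σ (MulAut.conjNormal (c : G) n) * (R c : Module.End ℂ (Fin d' → ℂ)) := by
    intro c n
    obtain ⟨h, rfl⟩ := hq c
    rw [hR]
    show algebraMap ℂ _ (((μ h)⁻¹ : ℂˣ) : ℂ) * (P h : Module.End ℂ _) * σ n =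
      σ _ * (algebraMap ℂ _ (((μ h)⁻¹ : ℂˣ) : ℂ) * (P h : Module.End ℂ _))
    rw [mul_assoc, hP, ← mul_assoc, Algebra.commutes, mul_assoc]
  let e := SemidirectProduct.mulEquivSubgroup hcompl
  let L := SemidirectProduct.lift σ.toHomUnits R
    (φ := (M.normalizerMonoidHom).comp (Subgroup.inclusion (M.normalizer_eq_top ▸ le_top)))
    (fun c => MonoidHom.ext fun n => Units.ext (by
      show σ _ = (R c : Module.End ℂ (Fin d' → ℂ)) * σ n * (↑(R c)⁻¹ : Module.End ℂ (Fin d' → ℂ))
      rw [hRn, mul_assoc, Units.mul_inv, mul_one]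
      congr 1))
  let ρ₀ : Representation ℂ G (Fin d' → ℂ) :=
    ((Units.coeHom _).comp L).comp e.symm.toMonoidHom
  have hres₀ : ∀ n : M, ρ₀.character n = σ.character n := fun n => by
    have he : e.symm (n : G) = SemidirectProduct.inl n := by
      rw [MulEquiv.symm_apply_eq]
      simp [e, SemidirectProduct.mulEquivSubgroup, SemidirectProduct.monoidHomSubgroup]
    show LinearMap.trace ℂ _ ((L (e.symm (n : G)) : (Module.End ℂ (Fin d' → ℂ))ˣ) : Module.End ℂ (Fin d' → ℂ)) = _
    rw [he, SemidirectProduct.lift_inl]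
    rfl
  have hirr₀ : IsIrrCharacter G ρ₀.character := isIrr_of_comp_irr M.subtype
    (isCharacter_character ρ₀) (by
      rw [show (fun x : M => ρ₀.character (M.subtype x)) = σ.character from funext hres₀]; exact hθ)
  obtain ⟨mC, ρC, hρC⟩ := isCharacter_lamPart lam
    (isCharacter_comp (pairHom C K hcomm) (isCharacter_character ρ₀))
  have hm1 : ρC.character 1 = (mQ : ℂ) := by
    rw [hρC]
    exact lamPart_value lam hKM hres₀ hm
  obtain rfl : mC = mQ := by
    rw [char_one_eq_dim ρC rfl] at hm1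
    exact_mod_cast hm1
  obtain ⟨i, hi⟩ : ∃ i, Nat.card C ∣ mC * i + 1 := by
    obtain ⟨t, ht⟩ : ∃ t, Nat.card C = t + 1 := ⟨Nat.card C - 1, (Nat.succ_pred Nat.card_pos.ne').symm⟩
    obtain ⟨i, -, hi⟩ := Nat.exists_mul_mod_eq_of_coprime t hmC Nat.card_pos.ne'
    exact ⟨i, by rw [Nat.dvd_iff_mod_eq_zero, Nat.add_mod, hi, ← Nat.add_mod, ← ht, Nat.mod_self]⟩
  let pr : G →* C := SemidirectProduct.rightHom.comp e.symm.toMonoidHom
  have hprM : ∀ n : M, pr (n : G) = 1 := fun n => by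
    have he : e.symm (n : G) = SemidirectProduct.inl n := by
      rw [MulEquiv.symm_apply_eq]
      simp [e, SemidirectProduct.mulEquivSubgroup, SemidirectProduct.monoidHomSubgroup]
    show SemidirectProduct.rightHom (e.symm (n : G)) = 1
    rw [he, SemidirectProduct.rightHom_inl]
  have hprC : ∀ (c : C) (k : K), pr ((c : G) * k) = c := fun c k => by
    rw [map_mul, hprM ⟨k, hKM k.2⟩, mul_one]
    have he : e.symm (c : G) = SemidirectProduct.inr c := by
      rw [MulEquiv.symm_apply_eq]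
      simp [e, SemidirectProduct.mulEquivSubgroup, SemidirectProduct.monoidHomSubgroup]
    show SemidirectProduct.rightHom (e.symm (c : G)) = c
    rw [he, SemidirectProduct.rightHom_inr]
  let β : G →* ℂˣ := (detHom ρC ^ i).comp pr
  refine ⟨fun g => (β g : ℂ) * ρ₀.character g, isIrr_linear_mul hirr₀ β, fun n => ?_, ?_⟩
  · show (β (n : G) : ℂ) * _ = _
    rw [show β (n : G) = 1 by simp [β, hprM], Units.val_one, one_mul, hres₀]
  · have hfun : (fun p : C × K => (β ((p.1 : G) * p.2) : ℂ) * ρ₀.character ((p.1 : G) * p.2)) =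
        fun p : C × K => ((detHom ρC ^ i) p.1 : ℂ) * ρ₀.character ((p.1 : G) * p.2) := by
      funext p
      simp [β, hprC]
    rw [Normalised, hfun, lamPart_linear_mul lam (detHom ρC ^ i)
      (fun p : C × K => ρ₀.character ((p.1 : G) * p.2))]
    rw [show lamPart lam (fun p : C × K => ρ₀.character ((p.1 : G) * p.2)) = ρC.character from hρC.symm,
      detChar_linear_mul ⟨_, ρC, rfl⟩ (char_one_eq_dim ρC rfl), detChar_eq_hom ρC rfl]
    funext c
    rw [MonoidHom.pow_apply, ← Units.val_pow_eq_pow_val, ← Units.val_mul, ← pow_mul, ← pow_succ]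
    obtain ⟨t, ht⟩ := hi
    rw [mul_comm i, ht, pow_mul, ← map_pow, pow_card_eq_one', map_one, one_pow, Units.val_one]

theorem normalised_unique [Fintype K] [Fintype C] (hcompl : Subgroup.IsComplement' M C) (hKM : K ≤ M)
    {θ : M → ℂ} (hθ : IsIrrCharacter M θ) (d : ℕ) (hd : θ 1 = d) (lam : K →* ℂˣ) (m : ℕ)
    (hcomm : ∀ c ∈ C, ∀ k ∈ K, c * k = k * c)
    (hm : (Nat.card K : ℂ)⁻¹ * ∑ k : K, (lam k⁻¹ : ℂ) * θ (Subgroup.inclusion hKM k) = m)
    (hmC : m.Coprime (Nat.card C)) {χ χ' : G → ℂ} (hχ : IsCharacter G χ) (hχ' : IsCharacter G χ')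
    (hres : ∀ n : M, χ n = θ n) (hres' : ∀ n : M, χ' n = θ n)
    (hn : Normalised C K lam χ) (hn' : Normalised C K lam χ') : χ' = χ := by
  classical
  obtain ⟨β, hβM, hβ, -⟩ := exists_twist M hχ hχ' hθ d hd hres hres'
  have hfun : (fun p : C × K => χ' ((p.1 : G) * p.2)) =
      fun p : C × K => ((β.comp C.subtype) p.1 : ℂ) * χ ((p.1 : G) * p.2) := by
    funext p
    rw [hβ]
    simp only [map_mul, MonoidHom.comp_apply, Subgroup.coe_subtype]
    rw [show β (p.2 : G) = 1 from hβM ⟨p.2, hKM p.2.2⟩, mul_one]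
  rw [Normalised, hfun, lamPart_linear_mul lam (β.comp C.subtype)
      (fun p : C × K => χ ((p.1 : G) * p.2)),
    detChar_linear_mul (isCharacter_lamPart lam (f := fun p : C × K => χ ((p.1 : G) * p.2))
      (isCharacter_comp (pairHom C K hcomm) hχ))
      (lamPart_value lam hKM hres hm)] at hn'
  have hβC : β.comp C.subtype = 1 := by
    refine MonoidHom.ext fun c => ?_
    have h1 := congrFun hn' c
    rw [congrFun hn c, mul_one, ← Units.val_pow_eq_pow_val, Units.val_eq_one] at h1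
    have h2 : (β.comp C.subtype) c ^ Nat.card C = 1 := by
      rw [← map_pow, pow_card_eq_one', map_one]
    exact orderOf_eq_one_iff.1 (Nat.eq_one_of_dvd_coprimes hmC
      (orderOf_dvd_of_pow_eq_one h1) (orderOf_dvd_of_pow_eq_one h2))
  rw [hβ]
  funext g
  obtain ⟨⟨n, c⟩, hg, -⟩ := hcompl.existsUnique g
  rw [← hg, map_mul, hβM n, one_mul,
    show β (c : G) = 1 from DFunLike.congr_fun hβC c, Units.val_one, one_mul]

end Cfsg.Agent.Char.ExtraExt
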