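import Cfsg.Agent.Lib.Char.ExtraExt.Canonical
import Cfsg.Agent.Lib.Char.ExtraExt.Normal
import Mathlib

/-!
A two-group of automorphisms normalising a prime order group acting without fixed points on the
central quotient: the faithful character extends.
-/

set_option autoImplicit false
set_option linter.unusedSectionVars false
set_option linter.style.haveILetI false
open scoped ComplexConjugate
open Cfsg

namespace Cfsg.Agent.Char.ExtraExt

universe u

variable {E : Type u} [Group E] [Finite E]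

theorem isCyclic_quotient_of_mulAut {K : Type*} [Group K] [Finite K] {q : ℕ} [hq : Fact q.Prime]
    (hK : Nat.card K = q) {T : Type*} [Group T] (f : T →* MulAut K) : IsCyclic (T ⧸ f.ker) := by
  haveI : IsCyclic K := isCyclic_of_prime_card hK
  haveI : IsCyclic (MulAut K) := by
    haveI : IsCyclic (ZMod (Nat.card K))ˣ := by
      rw [hK]
      infer_instance
    exact isCyclic_of_surjective (IsCyclic.mulAutMulEquiv K).symm.toMonoidHom
      (IsCyclic.mulAutMulEquiv K).symm.surjective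
  haveI : IsCyclic f.range := inferInstance
  exact isCyclic_of_surjective (QuotientGroup.quotientKerEquivRange f).symm.toMonoidHom
    (QuotientGroup.quotientKerEquivRange f).symm.surjective

theorem card_eq_sup {C K : Subgroup (MulAut E)} (hcom : ∀ c ∈ C, ∀ k ∈ K, c * k = k * c)
    (hbot : C ⊓ K = ⊥) : Nat.card ↥(C ⊔ K) = Nat.card C * Nat.card K := by
  rw [← Nat.card_prod]
  let f : C × K →* MulAut E := pairHom C K hcom
  have hr : f.range = C ⊔ K := by
    refine le_antisymm ?_ (sup_le (fun c hc => ⟨(⟨c, hc⟩, 1), mul_one c⟩)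
      (fun k hk => ⟨(1, ⟨k, hk⟩), one_mul k⟩))
    rintro - ⟨⟨c, k⟩, rfl⟩
    exact mul_mem (Subgroup.mem_sup_left c.2) (Subgroup.mem_sup_right k.2)
  rw [← hr]
  refine (Nat.card_congr (MonoidHom.ofInjective (f := f) fun a b hab => ?_).toEquiv).symm
  have hab' : (a.1 : MulAut E) * a.2 = b.1 * b.2 := hab
  have hab'' : (b.1 : MulAut E)⁻¹ * a.1 = (b.2 : MulAut E) * (a.2 : MulAut E)⁻¹ := by
    rw [eq_mul_inv_iff_mul_eq, mul_assoc, hab', inv_mul_cancel_left]
  have hm : (b.1 : MulAut E)⁻¹ * a.1 ∈ C ⊓ K :=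
    ⟨C.mul_mem (C.inv_mem b.1.2) a.1.2, hab'' ▸ K.mul_mem b.2.2 (K.inv_mem a.2.2)⟩
  rw [hbot, Subgroup.mem_bot] at hm
  refine Prod.ext (Subtype.ext (inv_mul_eq_one.1 hm).symm) (Subtype.ext ?_)
  rw [hm] at hab''
  exact (mul_inv_eq_one.1 hab''.symm).symm

theorem ext_of_prime (hE : IsExtraspecial 2 E) {θ : E → ℂ} (hθ : IsIrrCharacter E θ) (h1 : θ 1 ≠ 1)
    {T : Subgroup (MulAut E)} (hT : IsPGroup 2 T) (K : Subgroup (MulAut E)) {q : ℕ}
    [hq : Fact q.Prime] (hK : Nat.card K = q) (hq2 : q ≠ 2)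
    (hnorm : T ≤ Subgroup.normalizer (K : Set (MulAut E)))
    (hfix : ∀ x : E, (∀ k ∈ K, (k : MulAut E) x = x) → x ∈ Subgroup.center E) :
    ∃ f, Ext θ T f := by
  classical
  let C := T ⊓ Subgroup.centralizer (K : Set (MulAut E))
  have hcom : ∀ c ∈ C, ∀ k ∈ K, c * k = k * c := fun c hc k hk => (hc.2 k hk).symm
  have hCT : C ≤ T := inf_le_left
  have h2C : IsPGroup 2 C := hT.to_le hCT
  obtain ⟨a, ha⟩ := h2C.exists_card_eq
  haveI : Fact (Nat.Prime 2) := ⟨Nat.prime_two⟩
  have hbot : C ⊓ K = ⊥ := Subgroup.inf_eq_bot_of_coprime (by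
    rw [ha, hK]
    exact Nat.Coprime.pow_left _ ((Nat.coprime_primes Nat.prime_two hq.out).2 (Ne.symm hq2)))
  have hcard : Nat.card ↥(C ⊔ K) = 2 ^ a * q := by rw [card_eq_sup hcom hbot, ha, hK]
  obtain ⟨n, hn, hEcard, hdeg⟩ := degree_pow hE hθ h1
  obtain ⟨χ₁, hχ₁, -⟩ := canon_exists_unique hE hθ h1 K hK hq2
  obtain ⟨hconjinv, hpowinv, hmod⟩ := canon_spec hE hθ h1 K hK hq2 hχ₁ hfix
  obtain ⟨hirr₁, hres₁, -⟩ := hχ₁
  let Γ := HU (C ⊔ K)
  haveI := Fintype.ofFinite Γ
  let M : Subgroup Γ := (HU K).subgroupOf Γ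
  let C' : Subgroup Γ := (C.map SemidirectProduct.inr).subgroupOf Γ
  let K' : Subgroup Γ := (K.map SemidirectProduct.inr).subgroupOf Γ
  have hKn : C ⊔ K ≤ Subgroup.normalizer (K : Set (MulAut E)) :=
    sup_le (hCT.trans hnorm) Subgroup.le_normalizer
  haveI hMn : M.Normal := ⟨fun m hm g => by
    show ((g : Hol E) * (m : Hol E) * (g : Hol E)⁻¹).right ∈ K
    rw [SemidirectProduct.mul_right, SemidirectProduct.mul_right, SemidirectProduct.inv_right]
    exact (Subgroup.mem_normalizer_iff.1 (hKn g.2) _).1 hm⟩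
  haveI := Fintype.ofFinite C'
  haveI := Fintype.ofFinite K'
  haveI := Fintype.ofFinite M
  have hrightC : ∀ c : C', (c.1 : Hol E) = SemidirectProduct.inr (c.1 : Hol E).right ∧
      (c.1 : Hol E).right ∈ C := by
    intro c
    obtain ⟨y, hy, hye⟩ := c.2
    have e : (c.1 : Hol E) = SemidirectProduct.inr y := hye.symm
    rw [e]
    exact ⟨rfl, hy⟩
  have hrightK : ∀ k : K', (k.1 : Hol E) = SemidirectProduct.inr (k.1 : Hol E).right ∧
      (k.1 : Hol E).right ∈ K := by
    intro c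
    obtain ⟨y, hy, hye⟩ := c.2
    have e : (c.1 : Hol E) = SemidirectProduct.inr y := hye.symm
    rw [e]
    exact ⟨rfl, hy⟩
  have hcommΓ : ∀ c ∈ C', ∀ k ∈ K', c * k = k * c := by
    intro c hc k hk
    refine Subtype.ext ?_
    show (c : Hol E) * (k : Hol E) = (k : Hol E) * (c : Hol E)
    rw [(hrightC ⟨c, hc⟩).1, (hrightK ⟨k, hk⟩).1, ← map_mul, ← map_mul,
      hcom _ (hrightC ⟨c, hc⟩).2 _ (hrightK ⟨k, hk⟩).2]
  have hKM : K' ≤ M := fun k hk => (hrightK ⟨k, hk⟩).2
  let inC : C ≃ C' :=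
    { toFun := fun c => ⟨⟨SemidirectProduct.inr c.1, (le_sup_left : C ≤ C ⊔ K) c.2⟩, ⟨c.1, c.2, rfl⟩⟩
      invFun := fun c => ⟨_, (hrightC c).2⟩
      left_inv := fun _ => rfl
      right_inv := fun c => Subtype.ext (Subtype.ext (hrightC c).1.symm) }
  let inK : K ≃* K' :=
    { toFun := fun c => ⟨⟨SemidirectProduct.inr c.1, (le_sup_right : K ≤ C ⊔ K) c.2⟩, ⟨c.1, c.2, rfl⟩⟩
      invFun := fun c => ⟨_, (hrightK c).2⟩
      left_inv := fun _ => rfl
      right_inv := fun c => Subtype.ext (Subtype.ext (hrightK c).1.symm)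
      map_mul' := fun x y => Subtype.ext (Subtype.ext (map_mul SemidirectProduct.inr x.1 y.1)) }
  have hC'card : Nat.card C' = 2 ^ a := by rw [← Nat.card_congr inC, ha]
  have hcompl : Subgroup.IsComplement' M C' := by
    refine Subgroup.isComplement'_of_disjoint_and_mul_eq_univ ?_ ?_
    · rw [disjoint_iff, Subgroup.eq_bot_iff_forall]
      rintro x ⟨hx1, hx2⟩
      have h : (x : Hol E).right ∈ C ⊓ K := ⟨(hrightC ⟨x, hx2⟩).2, hx1⟩
      rw [hbot, Subgroup.mem_bot] at h
      refine Subtype.ext ?_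
      rw [(hrightC ⟨x, hx2⟩).1, h, map_one]
      rfl
    · refine Set.eq_univ_of_forall fun x => ?_
      obtain ⟨c, hc, k, hk, hck⟩ : ∃ c ∈ C, ∃ k ∈ K, k * c = (x : Hol E).right := by
        have h : (x : Hol E).right ∈ C ⊔ K := x.2
        have hC : C ≤ Subgroup.normalizer (K : Set (MulAut E)) := hCT.trans hnorm
        rw [sup_comm, ← SetLike.mem_coe, Subgroup.coe_mul_of_right_le_normalizer_left K C hC] at h
        obtain ⟨k, hk, c, hc, e⟩ := h
        exact ⟨c, hc, k, hk, e⟩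
      refine ⟨x * (inC ⟨c, hc⟩).1⁻¹, ?_, (inC ⟨c, hc⟩).1, (inC ⟨c, hc⟩).2, inv_mul_cancel_right _ _⟩
      show ((x : Hol E) * (SemidirectProduct.inr c)⁻¹).right ∈ K
      rw [SemidirectProduct.mul_right, SemidirectProduct.inv_right, SemidirectProduct.right_inr, ← hck,
        mul_inv_cancel_right]
      exact hk
  -- the character on `M`
  let toK : M ≃* HU K := Subgroup.subgroupOfEquivOfLe (HU_mono le_sup_right)
  let θM : M → ℂ := fun m => χ₁ (toK m)
  have hθM : IsIrrCharacter M θM := by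
    haveI := Fintype.ofFinite (HU K)
    refine isIrr_of_comp_irr toK.symm.toMonoidHom (isCharacter_comp toK.toMonoidHom (irr_isCharacter hirr₁)) ?_
    rw [show (fun x => θM (toK.symm.toMonoidHom x)) = χ₁ from funext fun x => by simp [θM]]
    exact hirr₁
  have hinvM : ∀ (g : Γ) (m : M), θM (MulAut.conjNormal g m) = θM m := fun g m => by
    refine hconjinv (g : Hol E) (fun x => ?_) (toK m) _
    show x.right ∈ K ↔ ((g : Hol E) * x * (g : Hol E)⁻¹).right ∈ K
    rw [SemidirectProduct.mul_right, SemidirectProduct.mul_right, SemidirectProduct.inv_right]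
    exact Subgroup.mem_normalizer_iff.1 (hKn g.2) _
  have hθM1 : θM 1 = ((2 ^ n : ℕ) : ℂ) := by
    show χ₁ (toK 1) = _
    rw [map_one, ← map_one (inlTo K), hres₁, hdeg]
  obtain ⟨k₀, hk₀K, hk₀⟩ : ∃ k₀ ∈ K, k₀ ≠ (1 : MulAut E) := by
    by_contra hh
    push Not at hh
    rw [(Subgroup.eq_bot_iff_forall K).2 hh, Subgroup.card_bot] at hK
    exact hq.out.one_lt.ne hK
  have hqk : k₀ ^ q = 1 := by
    have := congrArg Subtype.val (pow_card_eq_one' (x := (⟨k₀, hk₀K⟩ : K)))
    rwa [hK] at this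
  -- exponents realising the powers of `k₀`
  have hexp : ∀ k ∈ K, k ≠ 1 → ∃ i : ℕ, (∀ e : E, e ^ i = e) ∧ (∀ c ∈ C, c ^ i = c) ∧
      k₀ ^ i = k ∧ i.Coprime (Nat.card (HU K)) ∧ i.Coprime (Nat.card Γ) ∧
      ∀ y : Hol E, y.right ∈ C → y ^ i = y := by
    intro k hk hk1
    have hz : Subgroup.zpowers (⟨k₀, hk₀K⟩ : K) = ⊤ :=
      zpowers_eq_top_of_prime_card hK (by simpa using hk₀)
    obtain ⟨j, hj⟩ := (isOfFinOrder_of_finite (⟨k₀, hk₀K⟩ : K)).mem_powers_iff_mem_zpowers.mpr
      (show (⟨k, hk⟩ : K) ∈ Subgroup.zpowers (⟨k₀, hk₀K⟩ : K) from hz.symm ▸ Subgroup.mem_top _)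
    have hj' : k₀ ^ j = k := congrArg Subtype.val hj
    have hjq : ¬ q ∣ j := by
      rintro ⟨t, rfl⟩
      exact hk1 (by rw [← hj', pow_mul, hqk, one_pow])
    obtain ⟨i, hi, hi1, hij⟩ := exists_two_power_exponent (2 * n + 1 + a) q j hq2 hjq
    have h2 : ∀ {A : Type u} [Group A] [Finite A] (x : A) (b : ℕ), b ≤ 2 * n + 1 + a →
        Nat.card A = 2 ^ b → x ^ i = x := fun x b hb hx => by
      have h := pow_eq_pow_iff_modEq.2 (hi1.of_dvd
        ((hx ▸ orderOf_dvd_natCard x).trans (pow_dvd_pow 2 hb)) : i ≡ 1 [MOD orderOf x])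
      simpa using h
    refine ⟨i, fun e => h2 e _ (by omega) hEcard, fun c hc => ?_, ?_, ?_, ?_, fun y hy => ?_⟩
    · exact congrArg Subtype.val (h2 (⟨c, hc⟩ : C) a (by omega) ha)
    · rw [← hj']
      exact pow_eq_pow_iff_modEq.2 (hij.of_dvd (orderOf_dvd_of_pow_eq_one hqk))
    · rw [card_HU, hK, hEcard]
      exact hi.coprime_dvd_right (mul_dvd_mul_right (pow_dvd_pow 2 (by omega)) q)
    · rw [card_HU, hcard, hEcard, ← mul_assoc, ← pow_add]
      exact hi
    · exact congrArg Subtype.val (h2 (⟨y, hy⟩ : HU C) (2 * n + 1 + a) le_rfl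
        (by rw [card_HU, hEcard, ha, ← pow_add]))
  have hinr_pow : ∀ (k : MulAut E) (i : ℕ), (SemidirectProduct.inr k : Hol E) ^ i = SemidirectProduct.inr (k ^ i) :=
    fun k i => (map_pow _ k i).symm
  -- values on `K`
  set w : HU K := ⟨SemidirectProduct.inr k₀, hk₀K⟩ with hw
  have hval : ∀ k : K', k ≠ 1 → θM (Subgroup.inclusion hKM k) = χ₁ w := by
    intro k hk
    have hk1 : (k.1 : Hol E).right ≠ 1 := fun h => hk (Subtype.ext (Subtype.ext
      ((hrightK k).1.trans (by rw [h, map_one]; rfl))))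
    obtain ⟨i, hiE, -, hik, hicop, -, -⟩ := hexp _ (hrightK k).2 hk1
    rw [← hpowinv i hicop hiE w]
    show χ₁ (toK (Subgroup.inclusion hKM k)) = χ₁ (w ^ i)
    congr 1
    refine Subtype.ext ?_
    show (k.1 : Hol E) = (SemidirectProduct.inr k₀ : Hol E) ^ i
    rw [hinr_pow, hik]
    exact (hrightK k).1
  -- a nontrivial linear character
  haveI : Fintype K := Fintype.ofFinite K
  have hK'card : Nat.card K' = q := by rw [← Nat.card_congr inK.toEquiv, hK]
  haveI : IsCyclic K' := isCyclic_of_prime_card hK'card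
  letI : CommGroup K' := IsCyclic.commGroup
  have hk₀' : inK ⟨k₀, hk₀K⟩ ≠ 1 := fun h => hk₀ (congrArg Subtype.val (inK.map_eq_one_iff.1 h))
  obtain ⟨lam, hlam⟩ : ∃ lam : K' →* ℂˣ, lam (inK ⟨k₀, hk₀K⟩) ≠ 1 :=
    CommGroup.exists_apply_ne_one_of_hasEnoughRootsOfUnity K' ℂ hk₀'
  have hlamsum : ∑ k : K', (lam k⁻¹ : ℂ) = 0 := by
    rw [Fintype.sum_equiv (Equiv.inv K') (fun k => (lam k⁻¹ : ℂ)) (fun k => (lam k : ℂ)) fun k => rfl]
    exact sum_hom_units_eq_zero ((Units.coeHom ℂ).comp lam) fun h => hlam (Units.ext (by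
      simpa using DFunLike.congr_fun h (inK ⟨k₀, hk₀K⟩)))
  -- isotypic parts through one nontrivial element
  have hpart : ∀ F : K' → ℂ, (∀ k, k ≠ 1 → F k = F (inK ⟨k₀, hk₀K⟩)) →
      (Nat.card K' : ℂ)⁻¹ * ∑ k : K', (lam k⁻¹ : ℂ) * F k =
        (q : ℂ)⁻¹ * (F 1 - F (inK ⟨k₀, hk₀K⟩)) := by
    intro F hF
    rw [hK'card]
    congr 1
    rw [← Finset.add_sum_erase _ _ (Finset.mem_univ (1 : K')),
      Finset.sum_congr rfl (g := fun k => (lam k⁻¹ : ℂ) * F (inK ⟨k₀, hk₀K⟩)) fun k hk => by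
        rw [hF k (Finset.ne_of_mem_erase hk)], ← Finset.sum_mul,
      Finset.sum_erase_eq_sub (Finset.mem_univ _), hlamsum]
    simp
    ring
  obtain ⟨m, hm⟩ := classInner_natCast (isCharacter_comp (Subgroup.inclusion hKM) (irr_isCharacter hθM))
    (isCharacter_linear lam)
  have hm' : (Nat.card K' : ℂ)⁻¹ * ∑ k : K', (lam k⁻¹ : ℂ) * θM (Subgroup.inclusion hKM k) = m := by
    rw [← hm, classInner]
    congr 1
    exact Finset.sum_congr rfl fun k _ => by rw [lam_inv]; exact mul_comm _ _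
  have hmodd : Odd m := by
    have h := hm'
    rw [hpart (fun k => θM (Subgroup.inclusion hKM k)) (fun k hk => by
      rw [hval k hk, hval _ hk₀']), hval _ hk₀', map_one, hθM1] at h
    have hq0 : (q : ℂ) ≠ 0 := Nat.cast_ne_zero.2 hq.out.ne_zero
    have hv : χ₁ w = ((((2 ^ n : ℕ) : ℤ) - (q : ℤ) * m : ℤ) : ℂ) := by
      rw [inv_mul_eq_iff_eq_mul₀ hq0] at h
      push_cast
      push_cast at h
      linear_combination -h
    have hnw := hmod w hk₀
    rw [hv, Complex.norm_intCast] at hnw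
    have habs : |((2 ^ n : ℕ) : ℤ) - (q : ℤ) * m| = 1 := by exact_mod_cast hnw
    have hqodd : Odd (q : ℤ) := by exact_mod_cast hq.out.odd_of_ne_two hq2
    have heven : Even ((2 ^ n : ℕ) : ℤ) := by
      push_cast
      exact (even_two).pow_of_ne_zero hn.ne'
    have hodd : Odd ((q : ℤ) * m) := by
      rcases abs_eq (zero_le_one' ℤ) |>.1 habs with h' | h'
      · rw [show (q : ℤ) * m = ((2 ^ n : ℕ) : ℤ) - 1 by linarith]
        exact heven.sub_odd odd_one
      · rw [show (q : ℤ) * m = ((2 ^ n : ℕ) : ℤ) - (-1) by linarith]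
        exact heven.sub_odd odd_one.neg
    exact_mod_cast (Int.odd_mul.1 hodd).2
  have hm2 : ∀ b : ℕ, m.Coprime (2 ^ b) := fun b =>
    Nat.Coprime.pow_right _ (Nat.coprime_two_right.2 hmodd)
  obtain ⟨χ, hχ, hχM, hnorm'⟩ := exists_normalised hcompl hcommΓ hKM hθM hinvM (2 ^ n) hθM1 lam m
    hm' (hm2 n) (hC'card ▸ hm2 a)
  have hχE : ∀ e : E, χ (inlTo (C ⊔ K) e) = θ e := fun e => by
    rw [hχM ⟨inlTo (C ⊔ K) e, K.one_mem⟩]
    exact hres₁ e
  -- invariance under the two-fixing powers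
  have hindep : ∀ (c : C') (k : K'), k ≠ 1 → χ ((c.1 : Γ) * k) = χ ((c.1 : Γ) * inK ⟨k₀, hk₀K⟩) := by
    intro c k hk
    have hk1 : (k.1 : Hol E).right ≠ 1 := fun h => hk (Subtype.ext (Subtype.ext
      ((hrightK k).1.trans (by rw [h, map_one]; rfl))))
    obtain ⟨i, hiE, hiC, hik, hicop, hicopΓ, hiHC⟩ := hexp _ (hrightK k).2 hk1
    let χi : Γ → ℂ := fun g => χ (g ^ i)
    have hχiM : ∀ x : M, χi x = θM x := fun x => by
      show χ ((x : Γ) ^ i) = _
      rw [← Subgroup.coe_pow, hχM]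
      show χ₁ (toK (x ^ i)) = χ₁ (toK x)
      rw [map_pow, hpowinv i hicop hiE]
    obtain ⟨β, hβM, hβ, -⟩ := exists_twist M (irr_isCharacter hχ)
      (isCharacter_pow (irr_isCharacter hχ) hicopΓ) hθM (2 ^ n) hθM1 hχM hχiM
    -- `β` is trivial on the preimage of `C`
    let NC := HU C
    haveI := Fintype.ofFinite NC
    let j : NC →* Γ := Subgroup.inclusion (HU_mono le_sup_left)
    have hbeta : ∀ x : NC, β (j x) = 1 := by
      let R := (β.comp j).ker
      haveI := Fintype.ofFinite R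
      have hEker : ∀ e : E, inlTo C e ∈ R := fun e => hβM ⟨inlTo (C ⊔ K) e, K.one_mem⟩
      have hzero : ∀ x : NC, x ∉ R → χ (j x) = 0 := by
        intro x hx
        have h : χi (j x) = (β (j x) : ℂ) * χ (j x) := congrFun hβ (j x)
        have hpow : (j x) ^ i = j x := Subtype.ext (hiHC x.1 x.2)
        simp only [χi, hpow] at h
        by_contra hne
        exact hx (Units.ext ((mul_eq_right₀ hne).1 h.symm))
      have hchar : IsIrrCharacter NC (fun x => χ (j x)) :=
        irr_of_inl hθ (χ := fun x => χ (j x)) (isCharacter_comp j (irr_isCharacter hχ)) fun e => hχE e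
      have hR : IsIrrCharacter R (fun x : R => χ (j x)) := by
        haveI := Fintype.ofFinite E
        refine isIrr_of_comp_irr ((inlTo C).codRestrict R hEker)
          (isCharacter_comp (j.comp R.subtype) (irr_isCharacter hχ)) ?_
        rw [show (fun e => (fun x : R => χ (j x)) ((inlTo C).codRestrict R hEker e)) = θ from
          funext fun e => hχE e]
        exact hθ
      have h1' := irr_self hchar
      have h2' := irr_self hR
      rw [classInner, inv_mul_eq_one₀ (Nat.cast_ne_zero.2 Nat.card_pos.ne')] at h1' h2'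
      have hsum : ∑ x : NC, χ (j x) * conj (χ (j x)) = ∑ x : R, χ (j x) * conj (χ (j x)) := by
        rw [← Finset.sum_subset (Finset.subset_univ (Finset.univ.filter fun x : NC => x ∈ R))
          fun x _ hx => by rw [hzero x (by simpa using hx), zero_mul]]
        exact Finset.sum_subtype _ (fun x => by simp) _
      have hcardR : Nat.card R = Nat.card NC := by
        have : (Nat.card R : ℂ) = (Nat.card NC : ℂ) := by rw [h2', h1', hsum]
        exact_mod_cast this
      intro x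
      have hRt : R = ⊤ := Subgroup.eq_top_of_card_eq R hcardR
      exact (show x ∈ R from hRt ▸ Subgroup.mem_top x)
    have hβ1 : β ((c.1 : Γ) * inK ⟨k₀, hk₀K⟩) = 1 := by
      rw [map_mul, hβM ⟨(inK ⟨k₀, hk₀K⟩).1, hKM (inK ⟨k₀, hk₀K⟩).2⟩, mul_one]
      exact hbeta ⟨c.1.1, (hrightC c).2⟩
    have h := congrFun hβ ((c.1 : Γ) * inK ⟨k₀, hk₀K⟩)
    simp only [hβ1, Units.val_one, one_mul] at h
    rw [← h]
    congr 1
    rw [(show Commute (c.1 : Γ) (inK ⟨k₀, hk₀K⟩).1 from hcommΓ _ c.2 _ (inK ⟨k₀, hk₀K⟩).2).mul_pow]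
    refine Subtype.ext ?_
    show (c.1 : Hol E) * (k.1 : Hol E) = (c.1 : Hol E) ^ i * (SemidirectProduct.inr k₀ : Hol E) ^ i
    rw [hinr_pow, hik, ← (hrightK k).1, (hrightC c).1, hinr_pow, hiC _ (hrightC c).2]
  -- invariance under `T`
  have hTinv : ∀ g ∈ HU T, ∀ x : Γ, ∀ h : (g : Hol E) * x * g⁻¹ ∈ Γ,
      χ ⟨g * x * g⁻¹, h⟩ = χ x := by
    intro g hg
    have hgK : ∀ y : MulAut E, y ∈ K ↔ g.right * y * g.right⁻¹ ∈ K :=
      fun y => Subgroup.mem_normalizer_iff.1 (hnorm hg) y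
    have hgC : ∀ y : MulAut E, y ∈ C → g.right * y * g.right⁻¹ ∈ C := fun y hy => by
      refine ⟨T.mul_mem (T.mul_mem hg hy.1) (T.inv_mem hg), fun k hk => ?_⟩
      have hk' : g.right⁻¹ * k * g.right ∈ K := (hgK _).2 (by simpa [mul_assoc] using hk)
      calc k * (g.right * y * g.right⁻¹) = g.right * ((g.right⁻¹ * k * g.right) * y) * g.right⁻¹ := by group
        _ = g.right * (y * (g.right⁻¹ * k * g.right)) * g.right⁻¹ := by rw [hy.2 _ hk']
        _ = g.right * y * g.right⁻¹ * k := by group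
    -- conjugation by the automorphism component
    set t : Hol E := SemidirectProduct.inr g.right with ht
    have htΓ : ∀ x : Γ, t * x * t⁻¹ ∈ Γ := fun x => by
      show (t * (x : Hol E) * t⁻¹).right ∈ C ⊔ K
      rw [SemidirectProduct.mul_right, SemidirectProduct.mul_right, SemidirectProduct.inv_right, ht,
        SemidirectProduct.right_inr]
      have hle : C ⊔ K ≤ (C ⊔ K).comap (MulAut.conj g.right).toMonoidHom :=
        sup_le (fun y hy => Subgroup.mem_sup_left (hgC y hy))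
          (fun y hy => Subgroup.mem_sup_right ((hgK y).1 hy))
      exact hle x.2
    let α : Γ →* Γ := ((MulAut.conj t).toMonoidHom.comp Γ.subtype).codRestrict Γ htΓ
    have hαinj : Function.Injective α := fun x y hxy => Subtype.ext (by
      simpa [α] using congrArg Subtype.val hxy)
    have hαsurj : Function.Surjective α := Finite.injective_iff_surjective.1 hαinj
    let χ' : Γ → ℂ := fun x => χ (α x)
    have hχ'M : ∀ x : M, χ' x = θM x := fun x => by
      have hmem : α x ∈ M := by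
        show (t * (x.1 : Hol E) * t⁻¹).right ∈ K
        rw [SemidirectProduct.mul_right, SemidirectProduct.mul_right, SemidirectProduct.inv_right, ht,
          SemidirectProduct.right_inr]
        exact (hgK _).1 x.2
      show χ (α x) = _
      rw [hχM ⟨α x, hmem⟩]
      refine hconjinv t (fun y => ?_) (toK x) _
      show y.right ∈ K ↔ (t * y * t⁻¹).right ∈ K
      rw [SemidirectProduct.mul_right, SemidirectProduct.mul_right, SemidirectProduct.inv_right, ht,
        SemidirectProduct.right_inr]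
      exact hgK _
    have hαC : ∀ c : C', α c ∈ C' := fun c => ⟨_, hgC _ (hrightC c).2, by
      show SemidirectProduct.inr (g.right * (c.1 : Hol E).right * g.right⁻¹) = t * (c.1 : Hol E) * t⁻¹
      conv_rhs => rw [(hrightC c).1]
      rw [map_mul, map_mul, map_inv]⟩
    let αC : C' →* C' := (α.comp C'.subtype).codRestrict C' hαC
    have hαK : ∀ k : K', α k ∈ K' := fun c => ⟨_, (hgK _).1 (hrightK c).2, by
      show SemidirectProduct.inr (g.right * (c.1 : Hol E).right * g.right⁻¹) = t * (c.1 : Hol E) * t⁻¹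
      conv_rhs => rw [(hrightK c).1]
      rw [map_mul, map_mul, map_inv]⟩
    have hαk₀ : (⟨α (inK ⟨k₀, hk₀K⟩), hαK _⟩ : K') ≠ 1 := fun h => hk₀ (by
      have h' : α (inK ⟨k₀, hk₀K⟩).1 = α 1 := by rw [map_one]; exact congrArg Subtype.val h
      exact absurd (Subtype.ext (hαinj h') : inK ⟨k₀, hk₀K⟩ = 1) hk₀')
    have hn' : Normalised C' K' lam χ' := by
      have ha' : lamPart lam (fun p : C' × K' => χ' ((p.1 : Γ) * p.2)) =
          fun c => lamPart lam (fun p : C' × K' => χ ((p.1 : Γ) * p.2)) (αC c) := by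
        funext c
        simp only [lamPart]
        rw [hpart (fun k => χ' ((c : Γ) * k)) ?_, hpart (fun k => χ ((αC c : Γ) * k)) (hindep _)]
        · show (q : ℂ)⁻¹ * (χ (α _) - χ (α _)) = _
          rw [map_mul, map_mul]
          congr 2
          · simp [αC]; rfl
          · exact hindep (αC c) ⟨_, hαK _⟩ hαk₀
        · intro k hk
          show χ (α _) = χ (α _)
          rw [map_mul, map_mul]
          refine (hindep (αC c) ⟨_, hαK k⟩ ?_).trans (hindep (αC c) ⟨_, hαK _⟩ hαk₀).symm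
          intro h
          exact hk (Subtype.ext (hαinj ((congrArg Subtype.val h).trans (map_one α).symm)))
      rw [Normalised, ha', detChar_comp (isCharacter_lamPart lam
        (f := fun p : C' × K' => χ ((p.1 : Γ) * p.2))
        (isCharacter_comp (pairHom C' K' hcommΓ) (irr_isCharacter hχ))) αC, show _ = _ from hnorm']
    have heq := normalised_unique hcompl hKM hθM (2 ^ n) hθM1 lam m hcommΓ hm' (hC'card ▸ hm2 a)
      (irr_isCharacter hχ) (isCharacter_comp α (irr_isCharacter hχ)) hχM hχ'M hnorm' hn'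
    intro x hx
    have h1' : (⟨g * x * g⁻¹, hx⟩ : Γ) = inlTo (C ⊔ K) g.left * α x * (inlTo (C ⊔ K) g.left)⁻¹ := by
      refine Subtype.ext ?_
      show g * (x : Hol E) * g⁻¹ = SemidirectProduct.inl g.left * (t * (x : Hol E) * t⁻¹) *
        (SemidirectProduct.inl g.left : Hol E)⁻¹
      conv_lhs => rw [← SemidirectProduct.inl_left_mul_inr_right g]
      rw [ht]
      group
    rw [h1', isClassFunction_character (irr_isCharacter hχ)]
    exact congrFun heq x
  -- restrict to `C`, then extend to `T`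
  have hExt : Ext θ C (extendByZero Γ χ) := by
    refine Ext.mono hθ le_sup_left (V := C ⊔ K) ⟨?_, fun e => ?_⟩
    · rwa [show (fun x : Γ => extendByZero Γ χ x) = χ from funext fun x => extendByZero_mem Γ χ x.2]
    · rw [extendByZero_mem Γ χ (inl_mem_HU (C ⊔ K) e)]
      exact hχE e
  let φ : T →* MulAut K := (K.normalizerMonoidHom).comp (Subgroup.inclusion hnorm)
  have hker : φ.ker = C.subgroupOf T := by
    ext t
    rw [MonoidHom.mem_ker, Subgroup.mem_subgroupOf]
    constructor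
    · intro h
      refine ⟨t.2, fun k hk => ?_⟩
      have := congrArg Subtype.val (DFunLike.congr_fun h (⟨k, hk⟩ : K))
      simp [φ] at this
      exact (mul_inv_eq_iff_eq_mul.1 this).symm
    · intro h
      refine MulEquiv.ext fun k => Subtype.ext ?_
      simp [φ]
      exact mul_inv_eq_iff_eq_mul.2 (h.2 k k.2).symm
  haveI : (C.subgroupOf T).Normal := hker ▸ inferInstance
  have hcyc : IsCyclic (T ⧸ C.subgroupOf T) := by
    have := isCyclic_quotient_of_mulAut hK φ
    exact isCyclic_of_surjective (QuotientGroup.quotientMulEquivOfEq hker).toMonoidHom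
      (QuotientGroup.quotientMulEquivOfEq hker).surjective
  refine Ext.cyclic hCT hcyc hExt fun g hg x hx => ?_
  have hxΓ : x ∈ Γ := HU_mono le_sup_left hx
  have hgx : g * x * g⁻¹ ∈ HU C := by
    show (g * x * g⁻¹).right ∈ C
    rw [SemidirectProduct.mul_right, SemidirectProduct.mul_right, SemidirectProduct.inv_right]
    have : (⟨x.right, hCT hx⟩ : T) ∈ C.subgroupOf T := hx
    exact Subgroup.Normal.conj_mem inferInstance _ this ⟨g.right, hg⟩
  rw [extendByZero_mem Γ χ (HU_mono le_sup_left hgx), extendByZero_mem Γ χ hxΓ]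
  exact hTinv g hg ⟨x, hxΓ⟩ _

end Cfsg.Agent.Char.ExtraExt
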