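import Cfsg.Agent.Lib.Char.ExtraExt.Hol
import Cfsg.Agent.Lib.Char.GaloisConj
import Cfsg.Agent.S0867
import Mathlib

/-!
The canonical extension of the faithful character over a prime order automorphism group acting
without fixed points on the central quotient.
-/

set_option autoImplicit false
set_option linter.unusedSectionVars false
set_option linter.style.haveILetI false
open scoped ComplexConjugate commutatorElement
open Cfsg

namespace Cfsg.Agent.Char.ExtraExt

universe u

/-- A power fixing two-elements and realising a given residue. -/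
theorem exists_two_power_exponent (a q j : ℕ) [hq : Fact q.Prime] (hq2 : q ≠ 2) (hj : ¬ q ∣ j) :
    ∃ i : ℕ, i.Coprime (2 ^ a * q) ∧ i ≡ 1 [MOD 2 ^ a] ∧ i ≡ j [MOD q] := by
  have hco : (2 ^ a).Coprime q :=
    Nat.Coprime.pow_left a ((Nat.coprime_primes Nat.prime_two hq.out).2 (Ne.symm hq2))
  obtain ⟨i, h1, h2⟩ := Nat.chineseRemainder hco 1 j
  refine ⟨i, Nat.Coprime.mul_right ?_ ?_, h1, h2⟩
  · rw [Nat.coprime_iff_gcd_eq_one, h1.gcd_eq, Nat.gcd_one_left]
  · rw [Nat.coprime_iff_gcd_eq_one, h2.gcd_eq]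
    exact Nat.coprime_iff_gcd_eq_one.1 ((hq.out.coprime_iff_not_dvd.2 hj).symm)

variable {E : Type u} [Group E] [Finite E]

theorem inl_conj (g : Hol E) (e : E) :
    g * SemidirectProduct.inl e * g⁻¹ =
      SemidirectProduct.inl (g.left * g.right e * g.left⁻¹) := by
  ext <;> simp [SemidirectProduct.inv_left, SemidirectProduct.inv_right]

/-- An element acting without fixed points modulo the centre is conjugate, up to the centre, to all
elements of its coset. -/
theorem exists_coset_conj (hE : IsExtraspecial 2 E) {k : MulAut E} (hodd : Odd (orderOf k))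
    (hfix : ∀ x : E, k x = x → x ∈ Subgroup.center E) (e : E) :
    ∃ a : E, ∃ z ∈ Subgroup.center E, e = a * (k a)⁻¹ * z := by
  let Q := E ⧸ Subgroup.center E
  have hcomm : ∀ x y : Q, x * y = y * x := by
    intro x y
    induction x using QuotientGroup.induction_on with
    | H x => induction y using QuotientGroup.induction_on with
      | H y =>
        rw [← QuotientGroup.mk_mul, ← QuotientGroup.mk_mul, QuotientGroup.eq, ← hE.1.2.2,
          show (x * y)⁻¹ * (y * x) = ⁅y⁻¹, x⁻¹⁆ by rw [commutatorElement_def]; group]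
        exact Subgroup.commutator_mem_commutator (Subgroup.mem_top _) (Subgroup.mem_top _)
  let kb : Q →* Q := QuotientGroup.map _ _ k.toMonoidHom fun z hz =>
    Subgroup.mem_comap.mpr ((center_fixed hE k hz).symm ▸ hz)
  have hinj : Function.Injective fun x : Q => x * (kb x)⁻¹ := by
    intro x y hxy
    have h1 : kb (y⁻¹ * x) = y⁻¹ * x := by
      have h2 : y * ((kb y)⁻¹ * kb x) = x := by
        rw [← mul_assoc, ← show x * (kb x)⁻¹ = y * (kb y)⁻¹ from hxy, inv_mul_cancel_right]
      rw [map_mul, map_inv]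
      exact eq_inv_mul_iff_mul_eq.2 h2
    obtain ⟨d, hd⟩ := QuotientGroup.mk_surjective (y⁻¹ * x)
    rw [← hd] at h1
    have hc : (k d)⁻¹ * d ∈ Subgroup.center E := QuotientGroup.eq.1 h1
    set c := (k d)⁻¹ * d with hcd
    have hkd : k d = d * c⁻¹ := by
      rw [hcd]; group
    have hpow : ∀ i : ℕ, (k ^ i) d = d * c⁻¹ ^ i := by
      intro i
      induction i with
      | zero => simp
      | succ i ih =>
        rw [pow_succ', MulAut.mul_apply, ih, map_mul, map_pow, center_fixed hE k (inv_mem hc), hkd,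
          mul_assoc, ← pow_succ']
    have h2 : c⁻¹ ^ orderOf k = 1 := by
      have := hpow (orderOf k)
      rw [pow_orderOf_eq_one, MulAut.one_apply] at this
      exact left_eq_mul.1 this
    have h3 : c⁻¹ ^ 2 = 1 := by
      have h4 : (⟨c⁻¹, inv_mem hc⟩ : Subgroup.center E) ^ Nat.card (Subgroup.center E) = 1 :=
        pow_card_eq_one'
      rw [hE.2] at h4
      simpa using congrArg Subtype.val h4
    have h5 : c⁻¹ = 1 := by
      obtain ⟨t, ht⟩ := hodd
      rw [ht, pow_add, pow_mul, h3, one_pow, one_mul, pow_one] at h2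
      exact h2
    have h6 : (d : Q) = 1 := (QuotientGroup.eq_one_iff d).2 (hfix d (by rw [hkd, h5, mul_one]))
    rw [hd] at h6
    exact (inv_mul_eq_one.1 h6).symm
  obtain ⟨x, hx⟩ := (Finite.injective_iff_surjective.1 hinj) (e : Q)
  obtain ⟨a, rfl⟩ := QuotientGroup.mk_surjective x
  refine ⟨a, (a * (k a)⁻¹)⁻¹ * e, ?_, by group⟩
  exact QuotientGroup.eq.1 (show ((a * (k a)⁻¹ : E) : Q) = (e : Q) from hx)

section Setup

variable (hE : IsExtraspecial 2 E) {θ : E → ℂ} (hθ : IsIrrCharacter E θ) (h1 : θ 1 ≠ 1)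
  (K : Subgroup (MulAut E)) {q : ℕ} [hq : Fact q.Prime] (hK : Nat.card K = q) (hq2 : q ≠ 2)

/-- The determinant order of an extension is prime to the order of `K`. -/
def Canon (θ : E → ℂ) (K : Subgroup (MulAut E)) (χ : HU K → ℂ) : Prop :=
  IsIrrCharacter (HU K) χ ∧ (∀ e : E, χ (inlTo K e) = θ e) ∧
    (detOrder χ).Coprime (Nat.card K)

include hE hθ h1 hq hK hq2

theorem canon_exists_unique : ∃ χ, Canon θ K χ ∧ ∀ χ', Canon θ K χ' → χ' = χ := by
  classical
  let pr : HU K →* K :=
    (SemidirectProduct.rightHom.comp (HU K).subtype).codRestrict K fun x => x.2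
  have hpr : Function.Surjective pr := fun v => ⟨⟨SemidirectProduct.inr v.1, v.2⟩, rfl⟩
  let N := pr.ker
  haveI : N.Normal := inferInstance
  have hNr : ∀ n : N, (n.1 : Hol E).right = 1 := fun n => congrArg Subtype.val (MonoidHom.mem_ker.1 n.2)
  let p : N →* E :=
    { toFun := fun n => (n.1 : Hol E).left
      map_one' := rfl
      map_mul' := fun a b => by
        show ((a.1 : Hol E) * (b.1 : Hol E)).left = _
        rw [SemidirectProduct.mul_left, hNr a]
        rfl }
  let i : E →* N := (inlTo K).codRestrict N fun e => MonoidHom.mem_ker.2 (Subtype.ext rfl)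
  have hip : ∀ n : N, n = i (p n) := fun n => by
    refine Subtype.ext (Subtype.ext (SemidirectProduct.ext rfl ?_))
    exact hNr n
  have hidx : N.index = q := by
    rw [Subgroup.index_ker, MonoidHom.range_eq_top.2 hpr, Subgroup.card_top, hK]
  haveI := Fintype.ofFinite E
  haveI := Fintype.ofFinite N
  have hirr : IsIrrCharacter N (fun n => θ (p n)) := by
    refine isIrr_of_comp_irr i (isCharacter_comp p (irr_isCharacter hθ)) ?_
    exact hθ
  have hinv : ∀ (g : HU K) (n : N), (fun n => θ (p n)) ⟨g * n * g⁻¹, Subgroup.Normal.conj_mem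
      inferInstance (n : HU K) n.2 g⟩ = (fun n => θ (p n)) n := fun g n => by
    show θ ((g.1 * (n.1 : Hol E) * g.1⁻¹ : Hol E).left) = θ (p n)
    rw [show (n.1 : Hol E) = SemidirectProduct.inl (p n) from congrArg (fun m : N => (m.1 : Hol E)) (hip n),
      inl_conj, SemidirectProduct.left_inl, isClassFunction_character (irr_isCharacter hθ),
      aut_invariant hE hθ h1]
  obtain ⟨n, hn, hcard, hdeg⟩ := degree_pow hE hθ h1
  have hdo : (Cfsg.detOrder (fun m => θ (p m))) ∣ 2 ^ (2 * n + 1) := by
    obtain ⟨d, ρ, hρ⟩ := irr_isCharacter hθ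
    rw [detOrder_eq (ρ.comp p) (χ := fun m => θ (p m)) (funext fun m => by rw [← hρ]; rfl)]
    refine orderOf_dvd_of_pow_eq_one (MonoidHom.ext fun m => ?_)
    rw [MonoidHom.pow_apply, ← map_pow, MonoidHom.one_apply]
    have hm : m ^ 2 ^ (2 * n + 1) = 1 := by
      rw [hip m, ← map_pow, ← hcard, pow_card_eq_one', map_one]
    rw [hm, map_one]
  have hco : q.Coprime 2 := (Nat.coprime_primes hq.out Nat.prime_two).2 hq2
  obtain ⟨χ, ⟨hχ, hres, hdet⟩, huniq⟩ := Cfsg.Agent.S0867.result N (fun m => θ (p m)) hirr hinv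
    (2 ^ n) hdeg (hidx ▸ Nat.Coprime.mul_right (Nat.Coprime.coprime_dvd_right hdo (hco.pow_right _))
      (hco.pow_right _))
  refine ⟨χ, ⟨hχ, fun e => ?_, ?_⟩, fun χ' h' => huniq χ' h'.1 (fun m => ?_) ?_⟩
  · exact hres (i e)
  · rw [hdet, hK]
    exact Nat.Coprime.coprime_dvd_left hdo (hco.symm.pow_left _)
  · conv_lhs => rw [hip m]
    exact h'.2.1 (p m)
  · rw [hidx, ← hK]
    exact h'.2.2.symm

/-- The canonical extension is invariant under normalising elements and under powers fixing
two-elements, and its values off `E` have modulus one. -/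
theorem canon_spec {χ : HU K → ℂ} (hχ : Canon θ K χ) (hfix : ∀ x : E, (∀ k ∈ K, (k : MulAut E) x = x) →
    x ∈ Subgroup.center E) :
    (∀ (g : Hol E), (∀ x, x ∈ HU K ↔ g * x * g⁻¹ ∈ HU K) →
      ∀ (x : HU K) (h : g * x * g⁻¹ ∈ HU K), χ ⟨g * x * g⁻¹, h⟩ = χ x) ∧
    (∀ i : ℕ, i.Coprime (Nat.card (HU K)) → (∀ e : E, e ^ i = e) → ∀ x, χ (x ^ i) = χ x) ∧
    (∀ x : HU K, (x : Hol E).right ≠ 1 → ‖χ x‖ = 1) := by
  classical
  obtain ⟨χ₀, -, huniq⟩ := canon_exists_unique hE hθ h1 K hK hq2
  obtain rfl := huniq χ hχ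
  obtain ⟨hirr, hres, hdet⟩ := hχ
  haveI := Fintype.ofFinite (HU K)
  haveI := Fintype.ofFinite E
  obtain ⟨d, ρ, hρ⟩ := irr_isCharacter hirr
  have hpowinv : ∀ i : ℕ, i.Coprime (Nat.card (HU K)) → (∀ e : E, e ^ i = e) →
      ∀ x, χ (x ^ i) = χ x := by
    intro i hi hei x
    have hc : Canon θ K (fun y => χ (y ^ i)) := by
      refine ⟨isIrrCharacter_pow hirr hi, fun e => ?_, ?_⟩
      · show χ (inlTo K e ^ i) = θ e
        rw [← map_pow, hei, hres]
      · obtain ⟨d', ρ', hρ'⟩ := isCharacter_pow (irr_isCharacter hirr) hi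
        rw [detOrder_eq ρ' hρ']
        rw [detOrder_eq ρ hρ] at hdet
        refine Nat.Coprime.coprime_dvd_left (orderOf_dvd_of_pow_eq_one (MonoidHom.ext fun y =>
          Units.ext ?_)) hdet
        have h := congrFun (detChar_pow (irr_isCharacter hirr) hi) y
        rw [detChar_eq_hom ρ' hρ', detChar_eq_hom ρ hρ] at h
        simp only at h
        rw [MonoidHom.pow_apply, Units.val_pow_eq_pow_val, h, ← pow_mul, mul_comm, pow_mul,
          ← Units.val_pow_eq_pow_val, ← MonoidHom.pow_apply, pow_orderOf_eq_one]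
        simp
    exact congrFun (huniq _ hc) x
  refine ⟨fun g hg x hx => ?_, hpowinv, ?_⟩
  · let α : HU K →* HU K := ((MulAut.conj g).toMonoidHom.comp (HU K).subtype).codRestrict (HU K)
      fun y => (hg y).1 y.2
    have hα : Function.Bijective α := Finite.injective_iff_bijective.1 fun a b hab => by
      have := congrArg Subtype.val hab
      exact Subtype.ext (by simpa [α] using this)
    have hc : Canon θ K (fun y => χ (α y)) := by
      refine ⟨irr_of_inl hθ (χ := fun y => χ (α y)) (isCharacter_comp α (irr_isCharacter hirr)) fun e => ?_,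
        fun e => ?_, ?_⟩
      · show χ (α (inlTo K e)) = θ e
        rw [show α (inlTo K e) = inlTo K (g.left * g.right e * g.left⁻¹) from
          Subtype.ext (inl_conj g e), hres, isClassFunction_character (irr_isCharacter hθ),
          aut_invariant hE hθ h1]
      · show χ (α (inlTo K e)) = θ e
        rw [show α (inlTo K e) = inlTo K (g.left * g.right e * g.left⁻¹) from
          Subtype.ext (inl_conj g e), hres, isClassFunction_character (irr_isCharacter hθ),
          aut_invariant hE hθ h1]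
      · rw [detOrder_eq (ρ.comp α) (χ := fun y => χ (α y)) (funext fun y => by rw [← hρ]; rfl)]
        rw [detOrder_eq ρ hρ] at hdet
        refine Nat.Coprime.coprime_dvd_left (orderOf_dvd_of_pow_eq_one (MonoidHom.ext fun y => ?_)) hdet
        rw [MonoidHom.pow_apply, show detHom (ρ.comp α) y = detHom ρ (α y) from Units.ext rfl]
        exact DFunLike.congr_fun (pow_orderOf_eq_one (detHom ρ)) (α y)
    exact congrFun (huniq _ hc) x
  · -- modulus one off `E`
    haveI : IsCyclic K := isCyclic_of_prime_card hK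
    have hz : ∀ z ∈ Subgroup.center E, inlTo K z ∈ Subgroup.center (HU K) := fun z hzc =>
      Subgroup.mem_center_iff.2 fun g => by
        refine Subtype.ext (mul_inv_eq_iff_eq_mul.1 ?_)
        show (g : Hol E) * SemidirectProduct.inl z * (g : Hol E)⁻¹ = SemidirectProduct.inl z
        rw [inl_conj, center_fixed hE _ hzc,
          Subgroup.mem_center_iff.mp hzc, mul_inv_cancel_right]
    have hconj : ∀ (k : MulAut E) (hk : k ∈ K), k ≠ 1 → ∀ x : HU K, (x : Hol E).right = k →
        ‖χ x‖ = ‖χ ⟨SemidirectProduct.inr k, hk⟩‖ := by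
      intro k hk hk1 x hx
      have hord : orderOf k = q := by
        have h := orderOf_dvd_natCard (⟨k, hk⟩ : K)
        rw [hK, Subgroup.orderOf_mk] at h
        exact (hq.out.eq_one_or_self_of_dvd _ h).resolve_left (by simpa using hk1)
      have hgen : ∀ k' ∈ K, ∃ j : ℕ, k' = k ^ j := fun k' hk' => by
        have hz : Subgroup.zpowers k = K := Subgroup.eq_of_le_of_card_ge
          (Subgroup.zpowers_le.2 hk) (by rw [Nat.card_zpowers, hord, hK])
        obtain ⟨j, hj⟩ := (isOfFinOrder_of_finite k).mem_powers_iff_mem_zpowers.mpr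
          (show k' ∈ Subgroup.zpowers k from hz.symm ▸ hk')
        exact ⟨j, hj.symm⟩
      obtain ⟨a, z, hzc, ha⟩ := exists_coset_conj hE (k := k)
        (hord ▸ hq.out.odd_of_ne_two hq2) (fun y hy => hfix y fun k' hk' => by
          obtain ⟨j, rfl⟩ := hgen k' hk'
          induction j with
          | zero => rfl
          | succ j ih => rw [pow_succ, MulAut.mul_apply, hy, ih (pow_mem hk j)]) x.1.left
      obtain ⟨ω, hω, hωf⟩ := char_mul_central hirr (hz z hzc)
      have hx' : x = (inlTo K a) * ⟨SemidirectProduct.inr k, hk⟩ * (inlTo K a)⁻¹ * inlTo K z := by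
        refine Subtype.ext (SemidirectProduct.ext ?_ ?_)
        · simp [inlTo, center_fixed hE k hzc, ha]
        · simp [inlTo, hx]
      rw [hx', hωf, norm_mul, hω, one_mul, isClassFunction_character (irr_isCharacter hirr)]
    have hnorm : (∑ x : HU K, ‖χ x‖ ^ 2 : ℝ) = Nat.card (HU K) := by
      have h := irr_self hirr
      rw [classInner, inv_mul_eq_one₀ (Nat.cast_ne_zero.2 Nat.card_pos.ne')] at h
      have h2 : ((∑ x : HU K, ‖χ x‖ ^ 2 : ℝ) : ℂ) = ((Nat.card (HU K) : ℝ) : ℂ) := by
        push_cast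
        rw [h]
        exact Finset.sum_congr rfl fun x _ => by rw [Complex.mul_conj']
      exact_mod_cast h2
    have hnormE : (∑ e : E, ‖θ e‖ ^ 2 : ℝ) = Nat.card E := by
      have h := irr_self hθ
      rw [classInner, inv_mul_eq_one₀ (Nat.cast_ne_zero.2 Nat.card_pos.ne')] at h
      have h2 : ((∑ e : E, ‖θ e‖ ^ 2 : ℝ) : ℂ) = ((Nat.card E : ℝ) : ℂ) := by
        push_cast
        rw [h]
        exact Finset.sum_congr rfl fun x _ => by rw [Complex.mul_conj']
      exact_mod_cast h2
    obtain ⟨k₀, hk₀K, hk₀⟩ : ∃ k₀ ∈ K, k₀ ≠ (1 : MulAut E) := by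
      by_contra hh
      push Not at hh
      have : K = ⊥ := (Subgroup.eq_bot_iff_forall K).2 hh
      rw [this, Subgroup.card_bot] at hK
      exact hq.out.one_lt.ne hK
    -- all elements off `E` have the same modulus
    have hgal : ∀ (k : MulAut E) (hk : k ∈ K), k ≠ 1 →
        χ ⟨SemidirectProduct.inr k, hk⟩ = χ ⟨SemidirectProduct.inr k₀, hk₀K⟩ := by
      intro k hk hk1
      have hz : Subgroup.zpowers (⟨k₀, hk₀K⟩ : K) = ⊤ :=
        zpowers_eq_top_of_prime_card hK (by simpa using hk₀)
      obtain ⟨j, hj⟩ := (isOfFinOrder_of_finite (⟨k₀, hk₀K⟩ : K)).mem_powers_iff_mem_zpowers.mpr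
        (show (⟨k, hk⟩ : K) ∈ Subgroup.zpowers (⟨k₀, hk₀K⟩ : K) from hz.symm ▸ Subgroup.mem_top _)
      have hj' : k₀ ^ j = k := congrArg Subtype.val hj
      have hqk : k₀ ^ q = 1 := by
        have := congrArg Subtype.val (pow_card_eq_one' (x := (⟨k₀, hk₀K⟩ : K)))
        rwa [hK] at this
      have hjq : ¬ q ∣ j := by
        rintro ⟨t, rfl⟩
        exact hk1 (by rw [← hj', pow_mul, hqk, one_pow])
      obtain ⟨n, -, hcard, -⟩ := degree_pow hE hθ h1
      obtain ⟨i, hi, hi1, hij⟩ := exists_two_power_exponent (2 * n + 1) q j hq2 hjq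
      have hiE : ∀ e : E, e ^ i = e := fun e => by
        have := pow_eq_pow_iff_modEq.2 (hi1.of_dvd (hcard ▸ orderOf_dvd_natCard e) : i ≡ 1 [MOD orderOf e])
        simpa using this
      have hco : i.Coprime (Nat.card (HU K)) := by rwa [card_HU, hK, hcard]
      rw [← hpowinv i hco hiE ⟨SemidirectProduct.inr k₀, hk₀K⟩]
      congr 1
      refine Subtype.ext ?_
      show SemidirectProduct.inr k = (SemidirectProduct.inr k₀ : Hol E) ^ i
      rw [← map_pow, ← hj', pow_eq_pow_iff_modEq.2 (hij.of_dvd (orderOf_dvd_of_pow_eq_one hqk))]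
    intro x hx
    have hxK : x.1.right ∈ K := x.2
    rw [hconj x.1.right hxK hx x rfl, hgal _ hxK hx]
    set v : ℝ := ‖χ ⟨SemidirectProduct.inr k₀, hk₀K⟩‖ with hv
    let e : E × K ≃ HU K :=
      { toFun := fun p => ⟨⟨p.1, p.2.1⟩, p.2.2⟩
        invFun := fun y => (y.1.left, ⟨y.1.right, y.2⟩)
        left_inv := fun _ => rfl
        right_inv := fun _ => rfl }
    haveI := Fintype.ofFinite K
    have hsplit : (∑ y : HU K, ‖χ y‖ ^ 2 : ℝ) =
        (Nat.card E : ℝ) + ((q : ℝ) - 1) * ((Nat.card E : ℝ) * v ^ 2) := by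
      rw [← e.sum_comp, Fintype.sum_prod_type, Finset.sum_comm,
        ← Finset.add_sum_erase _ _ (Finset.mem_univ (1 : K))]
      congr 1
      · rw [← hnormE]
        refine Finset.sum_congr rfl fun a _ => ?_
        rw [← hres a]
        rfl
      · rw [Finset.sum_congr rfl (g := fun _ => (Nat.card E : ℝ) * v ^ 2) fun k hk => ?_,
          Finset.sum_const, Finset.card_erase_of_mem (Finset.mem_univ _), Finset.card_univ,
          ← Nat.card_eq_fintype_card, hK, nsmul_eq_mul, Nat.cast_sub hq.out.one_lt.le, Nat.cast_one]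
        have hk1 : (k : MulAut E) ≠ 1 := fun h => (Finset.mem_erase.1 hk).1 (Subtype.ext h)
        rw [Finset.sum_congr rfl (g := fun _ => v ^ 2) fun a _ => ?_, Finset.sum_const,
          Finset.card_univ, ← Nat.card_eq_fintype_card, nsmul_eq_mul]
        rw [hconj k k.2 hk1 (e (a, k)) rfl, hgal _ k.2 hk1]
    rw [hnorm, card_HU, hK] at hsplit
    push_cast at hsplit
    have hE0 : (0 : ℝ) < Nat.card E := Nat.cast_pos.2 Nat.card_pos
    have hq1 : (0 : ℝ) < (q : ℝ) - 1 := sub_pos.2 (Nat.one_lt_cast.2 hq.out.one_lt)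
    have hv2 : v ^ 2 = 1 := by
      have : ((q : ℝ) - 1) * (Nat.card E : ℝ) * (v ^ 2 - 1) = 0 := by linear_combination -hsplit
      rcases mul_eq_zero.1 this with h | h
      · exact absurd h (mul_pos hq1 hE0).ne'
      · linarith
    exact (pow_eq_one_iff_of_nonneg (norm_nonneg _) two_ne_zero).1 hv2

end Setup

end Cfsg.Agent.Char.ExtraExt
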