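import Cfsg.Agent.Lib.Char.ExtraExt.Main
import Cfsg.Agent.Lib.OddChar.FT.NoMinimal
import Cfsg.Agent.Lib.OddChar.FT.Final
import Cfsg.Agent.S0888

/-!
Dade's extension theorem for a split extension of an extraspecial two-group.
-/

set_option autoImplicit false
set_option linter.unusedSectionVars false
set_option linter.style.haveILetI false
open scoped commutatorElement Pointwise
open Cfsg

namespace Cfsg.Agent.Char.ExtraExt

universe u

theorem exists_extension_split {G : Type u} [Group G] [Finite G] (E H : Subgroup G) [hEn : E.Normal]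
    (hE : IsExtraspecial 2 E) (hEH : E ⊓ H = ⊥) (hEHtop : E ⊔ H = ⊤)
    (hfaith : ∀ h ∈ H, (∀ e ∈ E, h * e = e * h) → h = 1) (K : Subgroup G) (hKH : K ≤ H)
    (hKn : ∀ h ∈ H, ∀ k ∈ K, h * k * h⁻¹ ∈ K) (hKodd : Odd (Nat.card K)) (hEK : ⁅E, K⁆ = E)
    {θ : E → ℂ} (hθ : IsIrrCharacter E θ) (hθf : ∀ e : E, θ e = θ 1 → e = 1) :
    ∃ χ : G → ℂ, IsIrrCharacter G χ ∧ ∀ e : E, χ e = θ e := by
  classical
  haveI := Fintype.ofFinite E
  haveI : Fact (Nat.Prime 2) := ⟨Nat.prime_two⟩
  have h1 : θ 1 ≠ 1 := by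
    intro hl
    obtain ⟨l, hl'⟩ := exists_hom_of_degree_one (irr_isCharacter hθ) hl
    obtain ⟨a, b, hab, huniv⟩ := Nat.card_eq_two_iff.1 hE.2
    have hall : ∀ z : Subgroup.center E, z = 1 := fun z => by
      have hzc : (z : E) ∈ commutator E := hE.1.2.2.symm ▸ z.2
      have hle : commutator E ≤ l.ker := Abelianization.commutator_subset_ker l
      refine Subtype.ext (hθf z ?_)
      rw [hl']
      simp [MonoidHom.mem_ker.1 (hle hzc)]
    exact hab ((hall a).trans (hall b).symm)
  have hinvθ : ∀ (g : G) (n : E), θ ⟨g * n * g⁻¹, hEn.conj_mem (n : G) n.2 g⟩ = θ n := fun g n => by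
    rw [show (⟨g * n * g⁻¹, hEn.conj_mem (n : G) n.2 g⟩ : E) = MulAut.conjNormal g n from
      Subtype.ext (MulAut.conjNormal_apply g n).symm]
    exact aut_invariant hE hθ h1 _ n
  refine Cfsg.Agent.S0888.result E θ hθ hinvθ fun p hp => ?_
  haveI := Fact.mk hp
  obtain ⟨n, hn, hcard, hdeg⟩ := degree_pow hE hθ h1
  have hcompl : Subgroup.IsComplement' E H := Subgroup.isComplement'_of_disjoint_and_mul_eq_univ
    (disjoint_iff.2 hEH) (by rw [← Subgroup.normal_mul E H, hEHtop]; rfl)
  let S : Sylow p H := default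
  let S' : Subgroup G := (S : Subgroup H).map H.subtype
  have hS'H : S' ≤ H := Subgroup.map_subtype_le _
  have hS'card : Nat.card S' = Nat.card (S : Subgroup H) :=
    (Nat.card_congr (Subgroup.equivMapOfInjective _ _ (Subgroup.subtype_injective H)).toEquiv).symm
  have hES : Disjoint E S' := disjoint_iff.2 (le_bot_iff.1 (hEH ▸ inf_le_inf_left E hS'H))
  let P : Subgroup G := E ⊔ S'
  obtain ⟨k, hk⟩ := S.isPGroup'.exists_card_eq
  have hPc : Subgroup.IsComplement' (E.subgroupOf P) (S'.subgroupOf P) := by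
    refine Subgroup.isComplement'_of_disjoint_and_mul_eq_univ ?_ ?_
    · rw [disjoint_iff, Subgroup.eq_bot_iff_forall]
      rintro x ⟨hx1, hx2⟩
      exact Subtype.ext ((Subgroup.eq_bot_iff_forall _).1 (disjoint_iff.1 hES) x ⟨hx1, hx2⟩)
    · refine Set.eq_univ_of_forall fun x => ?_
      have hx : (x : G) ∈ (E : Set G) * (S' : Set G) := by
        rw [← Subgroup.normal_mul E S']
        exact x.2
      obtain ⟨e, he, s, hs, hes⟩ := hx
      exact ⟨⟨e, (le_sup_left : E ≤ P) he⟩, he, ⟨s, (le_sup_right : S' ≤ P) hs⟩, hs, Subtype.ext hes⟩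
  have hrel : E.relIndex P = p ^ k := by
    rw [Subgroup.relIndex, hPc.symm.index_eq_card,
      Nat.card_congr (Subgroup.subgroupOfEquivOfLe (le_sup_right : S' ≤ P)).toEquiv, hS'card]
    exact hk
  have hcop : P.index.Coprime p := by
    have hndvd : ¬ p ∣ (S : Subgroup H).index := S.not_dvd_index
    have h1 : Nat.card P * P.index = Nat.card G := P.card_mul_index
    have h2 : Nat.card P = Nat.card E * Nat.card (S : Subgroup H) := by
      rw [← hPc.card_mul, Nat.card_congr (Subgroup.subgroupOfEquivOfLe (le_sup_left : E ≤ P)).toEquiv,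
        Nat.card_congr (Subgroup.subgroupOfEquivOfLe (le_sup_right : S' ≤ P)).toEquiv, hS'card]
    have h3 := hcompl.card_mul
    have h4 := (S : Subgroup H).card_mul_index
    have h5 : P.index = (S : Subgroup H).index := by
      rw [← h3, ← h4, h2, ← mul_assoc] at h1
      exact Nat.eq_of_mul_eq_mul_left (Nat.mul_pos Nat.card_pos Nat.card_pos) h1
    rw [h5]
    exact ((hp.coprime_iff_not_dvd).2 hndvd).symm
  let NE := E.subgroupOf P
  let toE : NE ≃* E := Subgroup.subgroupOfEquivOfLe le_sup_left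
  haveI := Fintype.ofFinite P
  haveI := Fintype.ofFinite NE
  suffices h : ∃ η : P → ℂ, IsIrrCharacter P η ∧ ∀ n : E, η ⟨n, (le_sup_left : E ≤ P) n.2⟩ = θ n by
    obtain ⟨η, hη, hres⟩ := h
    exact ⟨P, le_sup_left, η, hcop, ⟨k, hrel⟩, hη, hres⟩
  by_cases hp2 : p = 2
  · subst hp2
    -- the holomorph map
    let a : H →* MulAut E := (MulAut.conjNormal (H := E)).comp H.subtype
    have ha : Function.Injective a := (injective_iff_map_eq_one a).2 fun h hh =>
      Subtype.ext (hfaith h h.2 fun e he => by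
        have := congrArg Subtype.val (DFunLike.congr_fun hh (⟨e, he⟩ : E))
        simp [a] at this
        exact mul_inv_eq_iff_eq_mul.1 this)
    let T : Subgroup (MulAut E) := (S : Subgroup H).map a
    let Ka : Subgroup (MulAut E) := (K.subgroupOf H).map a
    have hsolv : Group.IsSolvable Ka := by
      refine Cfsg.Agent.OddFT.odd_solvable_of_no_min Cfsg.Agent.OddFT.no_minSimple ?_
      have h := Subgroup.card_map_dvd (K.subgroupOf H) a
      rw [Nat.card_congr (Subgroup.subgroupOfEquivOfLe hKH).toEquiv] at h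
      exact hKodd.of_dvd_nat h
    have hdata : Data T Ka := by
      refine ⟨S.isPGroup'.map a, ?_, hsolv, ?_, ?_⟩
      · have h := Subgroup.card_map_dvd (K.subgroupOf H) a
        rw [Nat.card_congr (Subgroup.subgroupOfEquivOfLe hKH).toEquiv] at h
        exact hKodd.of_dvd_nat h
      · rintro - ⟨t, -, rfl⟩
        refine Subgroup.mem_normalizer_iff.2 fun y => ⟨?_, ?_⟩
        · rintro ⟨k, hk, rfl⟩
          exact ⟨t * k * t⁻¹, hKn _ t.2 _ hk, by simp⟩
        · rintro ⟨k, hk, hky⟩
          refine ⟨t⁻¹ * k * t, ?_, ?_⟩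
          · show ((t : G)⁻¹ * k * t) ∈ K
            simpa using hKn _ (H.inv_mem t.2) _ hk
          · rw [map_mul, map_mul, map_inv, hky]
            group
      · intro x hx
        have hfix : ∀ k ∈ K, k * (x : G) * k⁻¹ = x := fun k hk => by
          have := congrArg Subtype.val (hx (a ⟨k, hKH hk⟩) ⟨⟨k, hKH hk⟩, hk, rfl⟩)
          simpa [a] using this
        obtain ⟨φ, hφ⟩ := exists_commHom hE x
        have hle : E ≤ Subgroup.centralizer ({(x : G)} : Set G) := by
          conv_lhs => rw [← hEK]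
          refine Subgroup.commutator_le.2 fun e he k hk y hy => ?_
          rw [Set.mem_singleton_iff] at hy
          subst hy
          have hek : ⁅e, k⁆ = ((⟨e, he⟩ * (a ⟨k, hKH hk⟩ ⟨e⁻¹, E.inv_mem he⟩) : E) : G) := by
            simp [a, commutatorElement_def, mul_assoc]
          have hφk : φ (a ⟨k, hKH hk⟩ ⟨e⁻¹, E.inv_mem he⟩) = φ ⟨e⁻¹, E.inv_mem he⟩ := Subtype.ext (by
            rw [hφ, hφ]
            conv_lhs => rw [← hx (a ⟨k, hKH hk⟩) ⟨⟨k, hKH hk⟩, hk, rfl⟩]
            rw [← map_commutatorElement, center_fixed hE _ (commutator_mem_center hE _ x)])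
          have hzero : φ (⟨e, he⟩ * (a ⟨k, hKH hk⟩ ⟨e⁻¹, E.inv_mem he⟩)) = 1 := by
            rw [map_mul, hφk, ← map_mul,
              show (⟨e, he⟩ * ⟨e⁻¹, E.inv_mem he⟩ : E) = 1 from Subtype.ext (mul_inv_cancel e), map_one]
          have h2 := congrArg Subtype.val hzero
          rw [hφ, OneMemClass.coe_one, commutatorElement_eq_one_iff_mul_comm] at h2
          rw [hek]
          exact (congrArg Subtype.val h2).symm
        exact Subgroup.mem_center_iff.2 fun g => Subtype.ext (hle g.2 (x : G) rfl).symm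
    obtain ⟨f, hf⟩ := exists_ext hE hdata hθ h1
    -- the map to the holomorph
    let e := SemidirectProduct.mulEquivSubgroup hcompl
    let Λ₀ : E ⋊[(E.normalizerMonoidHom).comp (Subgroup.inclusion (E.normalizer_eq_top ▸ le_top))] H →*
        Hol E :=
      SemidirectProduct.map (MonoidHom.id E) a fun h => MonoidHom.ext fun x => Subtype.ext (by simp [a])
    let Λ : G →* Hol E := Λ₀.comp e.symm.toMonoidHom
    have hΛe : ∀ x : E, Λ (x : G) = SemidirectProduct.inl x := fun x => by
      have he : e.symm (x : G) = SemidirectProduct.inl x := by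
        rw [MulEquiv.symm_apply_eq]
        simp [e, SemidirectProduct.mulEquivSubgroup, SemidirectProduct.monoidHomSubgroup]
      show Λ₀ (e.symm (x : G)) = _
      rw [he, SemidirectProduct.map_inl]
      rfl
    have hΛs : ∀ s : H, Λ (s : G) = SemidirectProduct.inr (a s) := fun s => by
      have he : e.symm (s : G) = SemidirectProduct.inr s := by
        rw [MulEquiv.symm_apply_eq]
        simp [e, SemidirectProduct.mulEquivSubgroup, SemidirectProduct.monoidHomSubgroup]
      show Λ₀ (e.symm (s : G)) = _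
      rw [he, SemidirectProduct.map_inr]
    have hP : P ≤ (HU T).comap Λ := by
      refine sup_le (fun x hx => ?_) ?_
      · show Λ x ∈ HU T
        rw [hΛe ⟨x, hx⟩]
        exact inl_mem_HU T _
      · rintro - ⟨s, hs, rfl⟩
        show Λ (s : G) ∈ HU T
        rw [hΛs]
        exact ⟨s, hs, rfl⟩
    let ΛP : P →* HU T := (Λ.comp P.subtype).codRestrict _ fun x => hP x.2
    refine ⟨fun x => f (Λ x), ?_, fun x => ?_⟩
    · haveI := Fintype.ofFinite E
      refine isIrr_of_comp_irr (Subgroup.inclusion (le_sup_left : E ≤ P))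
        (isCharacter_comp ΛP (irr_isCharacter hf.1)) ?_
      rw [show (fun x : E => f (Λ ((Subgroup.inclusion (le_sup_left : E ≤ P) x : P) : G))) = θ from
        funext fun x => by rw [Subgroup.coe_inclusion, hΛe, hf.2]]
      exact hθ
    · show f (Λ (x : G)) = _
      rw [hΛe, hf.2]
  · have hirr : IsIrrCharacter NE (fun m => θ (toE m)) := by
      refine isIrr_of_comp_irr toE.symm.toMonoidHom (isCharacter_comp toE.toMonoidHom (irr_isCharacter hθ)) ?_
      rw [show (fun x => θ (toE (toE.symm.toMonoidHom x))) = θ from funext fun x => by simp]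
      exact hθ
    have hdo : Cfsg.detOrder (fun m => θ (toE m)) ∣ 2 ^ (2 * n + 1) := by
      obtain ⟨d, ρ, hρ⟩ := irr_isCharacter hθ
      rw [detOrder_eq (ρ.comp toE.toMonoidHom) (χ := fun m => θ (toE m)) (funext fun m => by rw [← hρ]; rfl)]
      refine orderOf_dvd_of_pow_eq_one (MonoidHom.ext fun m => ?_)
      rw [MonoidHom.pow_apply, ← map_pow, MonoidHom.one_apply]
      have hm : m ^ 2 ^ (2 * n + 1) = 1 := toE.injective (by
        rw [map_pow, ← hcard, pow_card_eq_one', map_one])
      rw [hm, map_one]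
    have hco : p.Coprime 2 := (Nat.coprime_primes hp Nat.prime_two).2 hp2
    have hidx : NE.index = p ^ k := hrel
    obtain ⟨χ, ⟨hχ, hres, -⟩, -⟩ := Cfsg.Agent.S0867.result NE (fun m => θ (toE m)) hirr
      (fun g m => hinvθ (g : G) (toE m)) (2 ^ n)
      (by rw [map_one]; exact hdeg)
      (hidx ▸ Nat.Coprime.pow_left k (Nat.Coprime.mul_right (hco.pow_right _ |>.coprime_dvd_right hdo)
        (hco.pow_right _)))
    exact ⟨χ, hχ, fun x => hres ⟨⟨x, (le_sup_left : E ≤ P) x.2⟩, x.2⟩⟩

end Cfsg.Agent.Char.ExtraExt
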