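import Cfsg.Agent.Lib.Char.ExtraExt.Hol
import Cfsg.Agent.Lib.Solv.Extraspecial
import Mathlib

/-!
Extensions of tensor products over a central product of two extraspecial subgroups.
-/

set_option autoImplicit false
set_option linter.unusedSectionVars false
set_option linter.style.haveILetI false
open scoped commutatorElement ComplexConjugate
open Cfsg

namespace Cfsg.Agent.Char.ExtraExt

universe u

variable {E : Type u} [Group E] [Finite E]

/-- Automorphisms stabilising a subgroup. -/
def stab (A : Subgroup E) : Subgroup (MulAut E) where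
  carrier := {α | ∀ x, x ∈ A ↔ α x ∈ A}
  one_mem' := fun _ => Iff.rfl
  mul_mem' := fun {α β} ha hb x => (hb x).trans (ha (β x))
  inv_mem' := fun {α} ha x => by
    rw [ha (α⁻¹ x), MulAut.apply_inv_self]

/-- Restriction to a stabilised subgroup. -/
def res (A : Subgroup E) : stab A →* MulAut A where
  toFun α :=
    { toFun := fun x => ⟨α.1 x, (α.2 x).1 x.2⟩
      invFun := fun x => ⟨α.1⁻¹ x, (α⁻¹.2 x).1 x.2⟩
      left_inv := fun x => Subtype.ext (MulAut.inv_apply_self E α.1 x)
      right_inv := fun x => Subtype.ext (MulAut.apply_inv_self E α.1 x)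
      map_mul' := fun x y => Subtype.ext (map_mul α.1 x.1 y.1) }
  map_one' := rfl
  map_mul' _ _ := rfl

/-- The restriction of a group of automorphisms. -/
def img (A : Subgroup E) (U : Subgroup (MulAut E)) : Subgroup (MulAut A) :=
  (U.subgroupOf (stab A)).map (res A)

theorem res_mem_img {A : Subgroup E} {U : Subgroup (MulAut E)} (α : stab A) (h : α.1 ∈ U) :
    res A α ∈ img A U := ⟨α, h, rfl⟩

section Faithful

variable (hE : IsExtraspecial 2 E)
include hE

theorem center_cases {z : E} (hz : z ∈ Subgroup.center E) (hz1 : z ≠ 1) {c : E}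
    (hc : c ∈ Subgroup.center E) : c = 1 ∨ c = z := by
  obtain ⟨a, b, -, hab⟩ := Nat.card_eq_two_iff.1 hE.2
  have hall : ∀ w : Subgroup.center E, w = a ∨ w = b := fun w => by
    have : w ∈ ({a, b} : Set (Subgroup.center E)) := hab ▸ Set.mem_univ w
    simpa using this
  have d1 : (⟨z, hz⟩ : Subgroup.center E) ≠ 1 := fun h => hz1 (congrArg Subtype.val h)
  by_contra hne
  push Not at hne
  have d2 : (⟨c, hc⟩ : Subgroup.center E) ≠ 1 := fun h => hne.1 (congrArg Subtype.val h)
  have d3 : (⟨c, hc⟩ : Subgroup.center E) ≠ ⟨z, hz⟩ := fun h => hne.2 (congrArg Subtype.val h)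
  rcases hall ⟨z, hz⟩ with ha | ha <;> rcases hall ⟨c, hc⟩ with hb | hb <;>
    rcases hall 1 with hc' | hc' <;> simp_all

theorem exists_nonlinear :
    ∃ θ : E → ℂ, IsIrrCharacter E θ ∧ θ 1 ≠ 1 := by
  haveI := Fintype.ofFinite E
  haveI : Fact (Nat.Prime 2) := ⟨Nat.prime_two⟩
  obtain ⟨n, hn, hcard, -⟩ := Cfsg.Agent.Solv.extraspecial_card hE
  obtain ⟨-, hcount⟩ := extraspecial_degrees hE hcard
  obtain ⟨⟨χ, hχ⟩, -⟩ := Nat.card_eq_one_iff_exists.1 hcount
  refine ⟨χ, χ.2, fun h => ?_⟩
  rw [hχ] at h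
  have h' : ((2 ^ n : ℕ) : ℂ) = ((1 : ℕ) : ℂ) := by push_cast; exact h
  rw [Nat.cast_inj] at h'
  have := Nat.lt_two_pow_self (n := n)
  omega

/-- The nonlinear character is the negative of its degree at the central involution. -/
theorem value_central {θ : E → ℂ} (hθ : IsIrrCharacter E θ) (h1 : θ 1 ≠ 1) {z : E}
    (hz : z ∈ Subgroup.center E) (hz1 : z ≠ 1) :
    θ z = -θ 1 ∧ ∀ x, θ (x * z) = -θ x := by
  classical
  haveI := Fintype.ofFinite E
  haveI : Fact (Nat.Prime 2) := ⟨Nat.prime_two⟩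
  obtain ⟨n, -, hcard, -⟩ := Cfsg.Agent.Solv.extraspecial_card hE
  have hdeg := (extraspecial_degrees hE hcard).1
  obtain ⟨ω, -, hω⟩ := char_mul_central hθ hz
  have hω2 : ω * ω = 1 := by
    have h := hω (1 * z)
    rw [mul_assoc, ← pow_two, show z ^ 2 = 1 from by
      have h : (⟨z, hz⟩ : Subgroup.center E) ^ Nat.card (Subgroup.center E) = 1 := pow_card_eq_one'
      rw [hE.2] at h
      exact congrArg Subtype.val h, mul_one, hω, ← mul_assoc] at h
    exact mul_right_cancel₀ (irr_one_ne_zero hθ) (h.symm.trans (one_mul _).symm)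
  have hω1 : ω ≠ 1 := by
    intro hh
    have hall : ∀ χ : IrrCharacter E, (χ : E → ℂ) z = (χ : E → ℂ) 1 := by
      intro χ
      rcases hdeg χ with hl | hl
      · obtain ⟨l, hl'⟩ := exists_hom_of_degree_one (irr_isCharacter χ.2) hl
        have hzc : z ∈ commutator E := hE.1.2.2.symm ▸ hz
        have : commutator E ≤ l.ker := Abelianization.commutator_subset_ker l
        rw [hl']
        simp [MonoidHom.mem_ker.1 (this hzc)]
      · by_cases hχ : (χ : E → ℂ) 1 = 1
        · obtain ⟨l, hl'⟩ := exists_hom_of_degree_one (irr_isCharacter χ.2) hχ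
          have hzc : z ∈ commutator E := hE.1.2.2.symm ▸ hz
          have : commutator E ≤ l.ker := Abelianization.commutator_subset_ker l
          rw [hl']
          simp [MonoidHom.mem_ker.1 (this hzc)]
        · rw [nonlinear_unique hE hθ χ.2 h1 hχ]
          have := hω 1
          rwa [one_mul, hh, one_mul] at this
    have hnc : ¬ IsConj (1 : E) z := fun h => hz1 (by
      obtain ⟨c, hc⟩ := isConj_iff.1 h
      rw [← hc, mul_one, mul_inv_cancel])
    have h := second_orth (1 : E) z
    rw [if_neg hnc] at h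
    have hpos : (∑ χ : IrrCharacter E, ‖(χ : E → ℂ) 1‖ ^ 2 : ℝ) = 0 := by
      have h2 : ((∑ χ : IrrCharacter E, ‖(χ : E → ℂ) 1‖ ^ 2 : ℝ) : ℂ) = 0 := by
        push_cast
        rw [← h]
        exact Finset.sum_congr rfl fun χ _ => by rw [hall χ, Complex.mul_conj']
      exact_mod_cast h2
    have h3 := (Finset.sum_eq_zero_iff_of_nonneg fun χ _ => sq_nonneg _).1 hpos ⟨θ, hθ⟩ (Finset.mem_univ _)
    exact irr_one_ne_zero hθ (norm_eq_zero.1 (pow_eq_zero_iff two_ne_zero |>.1 h3))
  have hωn : ω = -1 := by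
    rcases mul_self_eq_one_iff.1 hω2 with h | h
    · exact absurd h hω1
    · exact h
  subst hωn
  refine ⟨?_, fun x => by rw [hω, neg_one_mul]⟩
  have := hω 1
  rwa [one_mul, neg_one_mul] at this

end Faithful

/-- A central product decomposition. -/
structure Split (E : Type u) [Group E] (A B : Subgroup E) : Prop where
  comm : ∀ a ∈ A, ∀ b ∈ B, a * b = b * a
  gen : A ⊔ B = ⊤
  leftNC : ¬ A ≤ Subgroup.center E
  rightNC : ¬ B ≤ Subgroup.center E

variable {A B : Subgroup E}

theorem Split.symm (h : Split E A B) : Split E B A :=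
  ⟨fun b hb a ha => (h.comm a ha b hb).symm, sup_comm A B ▸ h.gen, h.rightNC, h.leftNC⟩

theorem Split.decomp (h : Split E A B) (x : E) : ∃ a ∈ A, ∃ b ∈ B, x = a * b := by
  have hn : B ≤ Subgroup.normalizer (A : Set E) := fun b hb => Subgroup.mem_normalizer_iff.2 fun a => by
    constructor
    · intro ha
      rwa [← h.comm a ha b hb, mul_inv_cancel_right]
    · intro ha
      have e : a = b⁻¹ * (b * a * b⁻¹) * b := by group
      rw [e, ← h.comm _ ha b⁻¹ (inv_mem hb), inv_mul_cancel_right]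
      exact ha
  have hx : x ∈ A ⊔ B := h.gen ▸ Subgroup.mem_top x
  rw [← SetLike.mem_coe, Subgroup.coe_mul_of_right_le_normalizer_left A B hn] at hx
  obtain ⟨a, ha, b, hb, e⟩ := hx
  exact ⟨a, ha, b, hb, e.symm⟩

theorem Split.center_le (hE : IsExtraspecial 2 E) (h : Split E A B) : Subgroup.center E ≤ A := by
  obtain ⟨a, ha, hna⟩ := SetLike.not_le_iff_exists.1 h.leftNC
  obtain ⟨g, hg⟩ : ∃ g, g * a ≠ a * g := by
    by_contra hh
    push Not at hh
    exact hna (Subgroup.mem_center_iff.mpr hh)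
  obtain ⟨a', ha', b', hb', rfl⟩ := h.decomp g
  have hne : ⁅a, a'⁆ ≠ 1 := fun e => hg (by
    rw [commutatorElement_eq_one_iff_mul_comm] at e
    rw [mul_assoc, ← h.comm a ha b' hb', ← mul_assoc, ← e, mul_assoc])
  have hcA : ⁅a, a'⁆ ∈ A := by
    rw [commutatorElement_def]
    exact A.mul_mem (A.mul_mem (A.mul_mem ha ha') (A.inv_mem ha)) (A.inv_mem ha')
  intro w hw
  have hc : ⁅a, a'⁆ ∈ Subgroup.center E :=
    hE.1.2.2 ▸ Subgroup.commutator_mem_commutator (Subgroup.mem_top a) (Subgroup.mem_top a')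
  rcases center_cases hE hc hne hw with rfl | rfl
  · exact one_mem _
  · exact hcA

theorem Split.mem_center (hE : IsExtraspecial 2 E) (h : Split E A B) (x : A) :
    x ∈ Subgroup.center A ↔ (x : E) ∈ Subgroup.center E := by
  constructor
  · intro hx
    refine Subgroup.mem_center_iff.2 fun g => ?_
    obtain ⟨a, ha, b, hb, rfl⟩ := h.decomp g
    have e : a * x.1 = x.1 * a := congrArg Subtype.val (Subgroup.mem_center_iff.1 hx ⟨a, ha⟩)
    rw [mul_assoc, ← h.comm x x.2 b hb, ← mul_assoc, e, mul_assoc]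
  · exact fun hx => Subgroup.mem_center_iff.2 fun g => Subtype.ext (Subgroup.mem_center_iff.1 hx g)

theorem Split.extraspecial (hE : IsExtraspecial 2 E) (h : Split E A B) : IsExtraspecial 2 A := by
  haveI : Fact (Nat.Prime 2) := ⟨Nat.prime_two⟩
  have hcard : Nat.card (Subgroup.center A) = 2 := by
    rw [← hE.2]
    exact Nat.card_congr
      { toFun := fun x => ⟨x.1, (h.mem_center hE x.1).1 x.2⟩
        invFun := fun x => ⟨⟨x.1, h.center_le hE x.2⟩, (h.mem_center hE _).2 x.2⟩
        left_inv := fun _ => rfl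
        right_inv := fun _ => rfl }
  refine Cfsg.Agent.Solv.isExtraspecial_of (hE.1.1.to_subgroup A) hcard ?_ fun x =>
    (h.mem_center hE _).2 (Cfsg.Agent.Solv.extraspecial_pow_mem_center hE (x : E))
  have hle : commutator A ≤ Subgroup.center A := by
    rw [commutator_def, Subgroup.commutator_le]
    intro a _ b _
    exact (h.mem_center hE _).2
      (hE.1.2.2 ▸ Subgroup.commutator_mem_commutator (Subgroup.mem_top _) (Subgroup.mem_top _))
  refine center_moved_two hcard hle ?_
  intro hb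
  obtain ⟨a, ha, hna⟩ := SetLike.not_le_iff_exists.1 h.leftNC
  refine hna ((h.mem_center hE ⟨a, ha⟩).1 (Subgroup.mem_center_iff.2 fun g => ?_))
  have := Subgroup.commutator_mem_commutator (Subgroup.mem_top g) (Subgroup.mem_top (⟨a, ha⟩ : A))
  rw [← commutator_def, hb, Subgroup.mem_bot, commutatorElement_eq_one_iff_mul_comm] at this
  exact this
where
  center_moved_two {G : Type u} [Group G] [Finite G] {K : Subgroup G} (hc : Nat.card (Subgroup.center G) = 2)
      (hK : K ≤ Subgroup.center G) (hb : K ≠ ⊥) : K = Subgroup.center G := by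
    refine Subgroup.eq_of_le_of_card_ge hK ?_
    rw [hc]
    have h1 : Nat.card K ≠ 1 := fun h => hb (Subgroup.card_eq_one.1 h)
    have h2 := Nat.card_pos (α := K)
    omega

/-- The multiplication map of a central product. -/
def Split.mulHom (h : Split E A B) : A × B →* E where
  toFun p := (p.1 : E) * p.2
  map_one' := by simp
  map_mul' p q := by
    simp only [Prod.fst_mul, Prod.snd_mul, Subgroup.coe_mul]
    rw [mul_assoc (p.1 : E) q.1, ← mul_assoc (q.1 : E), h.comm q.1 q.1.2 p.2 p.2.2]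
    group

theorem Split.mulHom_surjective (h : Split E A B) : Function.Surjective h.mulHom := fun x => by
  obtain ⟨a, ha, b, hb, rfl⟩ := h.decomp x
  exact ⟨(⟨a, ha⟩, ⟨b, hb⟩), rfl⟩

/-- The degrees multiply. -/
theorem Split.degree (hE : IsExtraspecial 2 E) (h : Split E A B) {θ : E → ℂ} (hθ : IsIrrCharacter E θ)
    (h1 : θ 1 ≠ 1) {θA : A → ℂ} (hA : IsIrrCharacter A θA) (hA1 : θA 1 ≠ 1) {θB : B → ℂ}
    (hB : IsIrrCharacter B θB) (hB1 : θB 1 ≠ 1) : θA 1 * θB 1 = θ 1 := by
  obtain ⟨n, -, hn, hdeg⟩ := degree_pow hE hθ h1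
  obtain ⟨a, -, ha, hadeg⟩ := degree_pow (h.extraspecial hE) hA hA1
  obtain ⟨b, -, hb, hbdeg⟩ := degree_pow (h.symm.extraspecial hE) hB hB1
  have hker : Nat.card h.mulHom.ker = 2 := by
    rw [← hE.2]
    refine Nat.card_congr
      { toFun := fun p => ⟨(p.1.1 : E), ?_⟩
        invFun := fun z => ⟨(⟨z.1, h.center_le hE z.2⟩,
          ⟨z.1⁻¹, B.inv_mem (h.symm.center_le hE z.2)⟩), MonoidHom.mem_ker.2 (mul_inv_cancel z.1)⟩
        left_inv := fun p => ?_
        right_inv := fun _ => rfl }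
    · have e : (p.1.1 : E) = (p.1.2 : E)⁻¹ :=
        mul_eq_one_iff_eq_inv.1 (MonoidHom.mem_ker.1 p.2)
      refine Subgroup.mem_center_iff.2 fun g => ?_
      obtain ⟨x, hx, y, hy, rfl⟩ := h.decomp g
      have h1 : x * (p.1.1 : E) = p.1.1 * x := by
        rw [e]; exact h.comm x hx _ (B.inv_mem p.1.2.2)
      rw [mul_assoc, ← h.comm _ p.1.1.2 y hy, ← mul_assoc, h1, mul_assoc]
    · refine Subtype.ext (Prod.ext rfl (Subtype.ext ?_))
      exact (eq_inv_iff_mul_eq_one.2 ((h.comm _ p.1.1.2 _ p.1.2.2).symm.trans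
        (MonoidHom.mem_ker.1 p.2))).symm
  have hc := h.mulHom.ker.index_mul_card
  rw [Subgroup.index_ker, MonoidHom.range_eq_top.2 h.mulHom_surjective, Subgroup.card_top, hker,
    Nat.card_prod, hn, ha, hb, ← pow_succ, ← pow_add] at hc
  have he := Nat.pow_right_injective le_rfl hc
  rw [hadeg, hbdeg, hdeg, ← Nat.cast_mul, ← pow_add, show a + b = n by omega]

/-- The central product of two extensions is an extension, given by the product formula. -/
theorem Split.exists_tensor (hE : IsExtraspecial 2 E) (h : Split E A B) {θ : E → ℂ}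
    (hθ : IsIrrCharacter E θ) (h1 : θ 1 ≠ 1) {θA : A → ℂ} (hA : IsIrrCharacter A θA) (hA1 : θA 1 ≠ 1)
    {θB : B → ℂ} (hB : IsIrrCharacter B θB) (hB1 : θB 1 ≠ 1) {U : Subgroup (MulAut E)}
    (hUA : U ≤ stab A) (hUB : U ≤ stab B) {fA : Hol A → ℂ} (hfA : Ext θA (img A U) fA)
    {fB : Hol B → ℂ} (hfB : Ext θB (img B U) fB) :
    ∃ f : Hol E → ℂ, Ext θ U f ∧ ∀ (a : A) (b : B) (u : MulAut E) (hu : u ∈ U),
      f ⟨a * b, u⟩ = fA ⟨a, res A ⟨u, hUA hu⟩⟩ * fB ⟨b, res B ⟨u, hUB hu⟩⟩ := by
  classical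
  let φ : U →* MulAut (A × B) :=
    { toFun := fun u => MulEquiv.prodCongr (res A ⟨u, hUA u.2⟩) (res B ⟨u, hUB u.2⟩)
      map_one' := rfl
      map_mul' := fun _ _ => rfl }
  let Y := (A × B) ⋊[φ] U
  haveI : Finite Y := Finite.of_equiv _ SemidirectProduct.equivProd.symm
  let pA : Y →* HU (img A U) :=
    { toFun := fun y => ⟨⟨y.left.1, res A ⟨y.right, hUA y.right.2⟩⟩, res_mem_img _ y.right.2⟩
      map_one' := rfl
      map_mul' := fun _ _ => rfl }
  let pB : Y →* HU (img B U) :=
    { toFun := fun y => ⟨⟨y.left.2, res B ⟨y.right, hUB y.right.2⟩⟩, res_mem_img _ y.right.2⟩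
      map_one' := rfl
      map_mul' := fun _ _ => rfl }
  let Φ : Y →* HU U :=
    { toFun := fun y => ⟨⟨h.mulHom y.left, y.right⟩, y.right.2⟩
      map_one' := Subtype.ext (SemidirectProduct.ext (map_one _) rfl)
      map_mul' := fun y y' => by
        refine Subtype.ext (SemidirectProduct.ext ?_ rfl)
        show h.mulHom (y.left * φ y.right y'.left) =
          h.mulHom y.left * (y.right : MulAut E) (h.mulHom y'.left)
        rw [map_mul]
        congr 1
        show ((res A ⟨y.right, hUA y.right.2⟩ y'.left.1 : A) : E) *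
          (res B ⟨y.right, hUB y.right.2⟩ y'.left.2 : B) = (y.right : MulAut E) ((y'.left.1 : E) * y'.left.2)
        rw [map_mul]
        rfl }
  have hΦ : Function.Surjective Φ := fun x => by
    obtain ⟨p, hp⟩ := h.mulHom_surjective x.1.left
    exact ⟨⟨p, ⟨x.1.right, x.2⟩⟩, Subtype.ext (SemidirectProduct.ext hp rfl)⟩
  obtain ⟨d, ρ, hρ⟩ := isCharacter_mul (isCharacter_comp pA (irr_isCharacter hfA.1))
    (isCharacter_comp pB (irr_isCharacter hfB.1))
  have hρ' : ∀ y, ρ.character y = fA (pA y) * fB (pB y) := fun y => congrFun hρ y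
  have hone : ρ.character 1 = θA 1 * θB 1 := by
    rw [hρ', ← hfA.2 1, ← hfB.2 1, map_one, map_one]
    rfl
  -- the kernel acts trivially
  have hker : Φ.ker ≤ ρ.toHomUnits.ker := by
    intro y hy
    have hy' := congrArg (fun x : HU U => (x : Hol E)) (MonoidHom.mem_ker.1 hy)
    have hr : y.right = 1 := Subtype.ext (congrArg SemidirectProduct.right hy')
    have hl : h.mulHom y.left = 1 := congrArg SemidirectProduct.left hy'
    have hy2 : y = SemidirectProduct.inl y.left := SemidirectProduct.ext rfl hr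
    have eab : (y.left.1 : E) = (y.left.2 : E)⁻¹ := mul_eq_one_iff_eq_inv.1 hl
    have hcA : y.left.1 ∈ Subgroup.center A := Subgroup.mem_center_iff.2 fun g => Subtype.ext (by
      show (g : E) * y.left.1 = y.left.1 * g
      rw [eab]
      exact h.comm g g.2 _ (B.inv_mem y.left.2.2))
    have hcB : y.left.2 ∈ Subgroup.center B := Subgroup.mem_center_iff.2 fun g => Subtype.ext (by
      show (g : E) * y.left.2 = y.left.2 * g
      rw [show (y.left.2 : E) = (y.left.1 : E)⁻¹ by rw [eab, inv_inv]]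
      exact (h.comm _ (A.inv_mem y.left.1.2) g g.2).symm)
    have hval : ρ.character y = ρ.character 1 := by
      rw [hone, hρ', hy2]
      show fA (SemidirectProduct.inl y.left.1) * fB (SemidirectProduct.inl y.left.2) = _
      rw [hfA.2, hfB.2]
      by_cases ha : y.left.1 = 1
      · have hb : y.left.2 = 1 := Subtype.ext (by
          have := eab
          rw [ha, OneMemClass.coe_one, eq_comm, inv_eq_one] at this
          exact this)
        rw [ha, hb]
      · have hb : y.left.2 ≠ 1 := fun hb => ha (Subtype.ext (by rw [eab, hb]; simp))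
        rw [(value_central (h.extraspecial hE) hA hA1 hcA ha).1,
          (value_central (h.symm.extraspecial hE) hB hB1 hcB hb).1]
        ring
    rw [MonoidHom.mem_ker]
    refine Units.ext ?_
    show ρ y = 1
    rw [Module.End.one_eq_id, ← eq_id_iff, hval, Representation.char_one]
  let R := Φ.liftOfSurjective hΦ ⟨ρ.toHomUnits, hker⟩
  let ρ' : Representation ℂ (HU U) (Fin d → ℂ) := (Units.coeHom _).comp R
  have hval : ∀ y, ρ'.character (Φ y) = fA (pA y) * fB (pB y) := fun y => by
    rw [← hρ']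
    show LinearMap.trace ℂ _ ((R (Φ y) : (Module.End ℂ (Fin d → ℂ))ˣ) : Module.End ℂ (Fin d → ℂ)) = _
    rw [show R (Φ y) = ρ.toHomUnits y from MonoidHom.liftOfRightInverse_comp_apply _ _ _ ⟨_, hker⟩ y]
    rfl
  haveI := Fintype.ofFinite E
  haveI : Fact (Nat.Prime 2) := ⟨Nat.prime_two⟩
  let ψ : E → ℂ := fun e => ρ'.character (inlTo U e)
  have hψc : IsCharacter E ψ := isCharacter_comp (inlTo U) (isCharacter_character ρ')
  have hψab : ∀ (a : A) (b : B), ψ (a * b) = θA a * θB b := fun a b => by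
    rw [← hfA.2, ← hfB.2]
    exact hval (SemidirectProduct.inl (a, b))
  have hψ1 : ψ 1 = θ 1 := by
    rw [show ψ 1 = ψ (((1 : A) : E) * ((1 : B) : E)) by simp, hψab, h.degree hE hθ h1 hA hA1 hB hB1]
  have hψz : ∀ z ∈ Subgroup.center E, z ≠ 1 → ∀ x, ψ (x * z) = -ψ x := by
    intro z hz hz1 x
    obtain ⟨a, ha, b, hb, rfl⟩ := h.decomp x
    have hzA : (⟨z, h.center_le hE hz⟩ : A) ∈ Subgroup.center A := (h.mem_center hE _).2 hz
    have e : a * b * z = ((⟨a, ha⟩ * ⟨z, h.center_le hE hz⟩ : A) : E) * ((⟨b, hb⟩ : B) : E) := by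
      show a * b * z = a * z * b
      rw [mul_assoc, Subgroup.mem_center_iff.1 hz b, ← mul_assoc]
    rw [e, hψab, hψab ⟨a, ha⟩ ⟨b, hb⟩,
      (value_central (h.extraspecial hE) hA hA1 hzA (fun h => hz1 (congrArg Subtype.val h))).2]
    ring
  have hψθ : ψ = θ := by
    funext x
    by_cases hx : x ∈ Subgroup.center E
    · by_cases hx1 : x = 1
      · rw [hx1, hψ1]
      · have := hψz x hx hx1 1
        rw [one_mul] at this
        rw [this, hψ1, (value_central hE hθ h1 hx hx1).1]
    · have hv1 := extraspecial_vanish hE (isClassFunction_character hψc) (fun z hz hz1 =>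
        ⟨-1, by norm_num, fun y => by rw [hψz z hz hz1, neg_one_mul]⟩) hx
      have hv2 := extraspecial_vanish hE (isClassFunction_character (irr_isCharacter hθ)) (fun z hz hz1 =>
        ⟨-1, by norm_num, fun y => by rw [(value_central hE hθ h1 hz hz1).2, neg_one_mul]⟩) hx
      rw [hv1, hv2]
  have hirr : IsIrrCharacter (HU U) ρ'.character :=
    irr_of_inl hθ (isCharacter_character ρ') fun e => congrFun hψθ e
  refine ⟨extendByZero (HU U) ρ'.character, ⟨?_, fun e => ?_⟩, fun a b u hu => ?_⟩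
  · rwa [show (fun x : HU U => extendByZero (HU U) ρ'.character x) = ρ'.character from
      funext fun x => extendByZero_mem _ _ x.2]
  · rw [extendByZero_mem _ _ (inl_mem_HU U e)]
    exact congrFun hψθ e
  · rw [extendByZero_mem _ _ (show (⟨(a : E) * b, u⟩ : Hol E) ∈ HU U from hu)]
    exact hval ⟨(a, b), ⟨u, hu⟩⟩

end Cfsg.Agent.Char.ExtraExt
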