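import Cfsg.Agent.Lib.Char.ExtraExt.Action
import Cfsg.Agent.Lib.Char.ExtraExt.Tensor
import Mathlib

/-!
The maximal subgroups of an abelian group of automorphisms with a large fixed subgroup.
-/

set_option autoImplicit false
set_option linter.unusedSectionVars false
open Cfsg

namespace Cfsg.Agent.Char.ExtraExt

universe u

variable {E : Type u} [Group E] [Finite E]

theorem le_stab {A : Subgroup E} {U : Subgroup (MulAut E)} (h : ∀ g ∈ U, ∀ x ∈ A, (g : MulAut E) x ∈ A) :
    U ≤ stab A := fun g hg x =>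
  ⟨fun hx => h g hg x hx, fun hx => by simpa using h g⁻¹ (U.inv_mem hg) _ hx⟩

/-- A maximal subgroup of `K` whose fixed subgroup is not central. -/
def Maxl (K L : Subgroup (MulAut E)) : Prop :=
  L ≤ K ∧ ¬ fix L ≤ Subgroup.center E ∧ ∀ M ≤ K, L < M → fix M ≤ Subgroup.center E

/-- The span of the fixed subgroups in a part of the family. -/
def span (K : Subgroup (MulAut E)) (P : Subgroup (MulAut E) → Prop) : Subgroup E :=
  Subgroup.center E ⊔ ⨆ L : {L : Subgroup (MulAut E) // Maxl K L ∧ P L}, fix L.1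

variable {K : Subgroup (MulAut E)}

theorem fix_le_span {P : Subgroup (MulAut E) → Prop} {L : Subgroup (MulAut E)} (h : Maxl K L) (hP : P L) :
    fix L ≤ span K P :=
  le_sup_of_le_right (le_iSup (fun L : {L : Subgroup (MulAut E) // Maxl K L ∧ P L} => fix L.1) ⟨L, h, hP⟩)

theorem maxl_conj (hE : IsExtraspecial 2 E) {g : MulAut E} (hg : g ∈ Subgroup.normalizer (K : Set (MulAut E)))
    {L : Subgroup (MulAut E)} (h : Maxl K L) : Maxl K (L.map (MulAut.conj g).toMonoidHom) := by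
  have hconj : ∀ {g : MulAut E}, g ∈ Subgroup.normalizer (K : Set (MulAut E)) →
      ∀ M ≤ K, M.map (MulAut.conj g).toMonoidHom ≤ K := by
    rintro g hg M hM - ⟨m, hm, rfl⟩
    exact (Subgroup.mem_normalizer_iff.1 hg m).1 (hM hm)
  refine ⟨hconj hg L h.1, fun hle => h.2.1 fun x hx => ?_, fun M hM hlt => ?_⟩
  · have h2 := hle ((fix_map g).2 hx)
    have h3 := center_fixed hE g⁻¹ h2
    rw [MulAut.inv_apply_self] at h3
    rwa [h3]
  · intro y hy
    set N := M.map (MulAut.conj g⁻¹).toMonoidHom with hN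
    have hNM : N.map (MulAut.conj g).toMonoidHom = M := by
      rw [hN, Subgroup.map_map]
      convert Subgroup.map_id M
      ext x
      simp [mul_assoc]
    have hle : L ≤ N := fun l hl => ⟨g * l * g⁻¹, hlt.le ⟨l, hl, rfl⟩, by simp [mul_assoc]⟩
    have hne : L ≠ N := fun e => hlt.ne (by rw [e, hNM])
    have hy' : g⁻¹ y ∈ fix N := by
      rw [hN]; exact (fix_map g⁻¹).2 hy
    have h2 := h.2.2 N (hconj (inv_mem hg) M hM) (lt_of_le_of_ne hle hne) hy'
    have h3 := center_fixed hE g h2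
    rw [MulAut.apply_inv_self] at h3
    rwa [h3]

theorem exists_maxl {S : Subgroup (MulAut E)} (hS : S ≤ K) (h : ¬ fix S ≤ Subgroup.center E) :
    ∃ L, Maxl K L ∧ S ≤ L := by
  obtain ⟨L, hSL, ⟨hLK, hL⟩, hmax⟩ :=
    Finite.exists_le_maximal (p := fun L : Subgroup (MulAut E) => L ≤ K ∧ ¬ fix L ≤ Subgroup.center E)
      (a := S) ⟨hS, h⟩
  exact ⟨L, ⟨hLK, hL, fun M hM hlt => by_contra fun hM' => hlt.not_ge (hmax ⟨hM, hM'⟩ hlt.le)⟩, hSL⟩

theorem span_apply (hE : IsExtraspecial 2 E) {g : MulAut E}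
    (hg : g ∈ Subgroup.normalizer (K : Set (MulAut E))) {P Q : Subgroup (MulAut E) → Prop}
    (hPQ : ∀ L, Maxl K L → P L → Q (L.map (MulAut.conj g).toMonoidHom)) {x : E} (hx : x ∈ span K P) :
    g x ∈ span K Q := by
  have hle : span K P ≤ (span K Q).comap g.toMonoidHom := by
    refine sup_le (fun z hz => ?_) (iSup_le fun L y hy => ?_)
    · show g z ∈ span K Q
      rw [center_fixed hE g hz]
      exact Subgroup.mem_sup_left hz
    · exact fix_le_span (maxl_conj hE hg L.2.1) (hPQ _ L.2.1 L.2.2) ((fix_map g).2 hy)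
  exact hle hx

theorem fix_le_two_spans (hE : IsExtraspecial 2 E) {q : ℕ} [hq : Fact q.Prime] (hq2 : q ≠ 2)
    (hKodd : Odd (Nat.card K)) (hcomm : ∀ a ∈ K, ∀ b ∈ K, a * b = b * a) (hexp : ∀ a ∈ K, a ^ q = 1)
    (hKfix : fix K ≤ Subgroup.center E) (P : Subgroup (MulAut E) → Prop) :
    ∀ S ≤ K, fix S ≤ span K P ⊔ span K fun L => ¬ P L := by
  have hZ : Subgroup.center E ≤ span K P ⊔ span K fun L => ¬ P L := le_sup_of_le_left le_sup_left
  intro S hS
  induction h : Nat.card K - Nat.card S using Nat.strong_induction_on generalizing S with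
  | _ n ih =>
  by_cases hc : fix S ≤ Subgroup.center E
  · exact hc.trans hZ
  by_cases hmax : Maxl K S
  · by_cases hP : P S
    · exact le_sup_of_le_left (fix_le_span hmax hP)
    · exact le_sup_of_le_right (fix_le_span (P := fun L => ¬ P L) hmax hP)
  obtain ⟨a, ha, haS⟩ : ∃ a ∈ K, a ∉ S := SetLike.not_le_iff_exists.1 fun hKS =>
    hc ((fix_anti hKS).trans hKfix)
  have haK : S ⊔ Subgroup.zpowers a ≤ K := sup_le hS (Subgroup.zpowers_le.2 ha)
  obtain ⟨b, hb, hbn⟩ : ∃ b ∈ K, b ∉ S ⊔ Subgroup.zpowers a := SetLike.not_le_iff_exists.1 fun hKS => by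
    refine hmax ⟨hS, hc, fun M hM hlt => ?_⟩
    suffices hMK : K ≤ M from (fix_anti hMK).trans hKfix
    refine hKS.trans (sup_le hlt.le (Subgroup.zpowers_le.2 ?_))
    obtain ⟨m, hm, hmS⟩ := SetLike.not_le_iff_exists.1 hlt.not_ge
    have hn : Subgroup.zpowers a ≤ Subgroup.normalizer (S : Set (MulAut E)) := by
      refine Subgroup.zpowers_le.2 (Subgroup.mem_normalizer_iff.2 fun y => ?_)
      constructor
      · intro hy; rwa [hcomm a ha y (hS hy), mul_inv_cancel_right]
      · intro hy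
        have e : y = a⁻¹ * (a * y * a⁻¹) * a := by group
        rw [e, hcomm a⁻¹ (K.inv_mem ha) _ (hS hy), inv_mul_cancel_right]
        exact hy
    have hm' := hKS (hM hm)
    rw [← SetLike.mem_coe, Subgroup.coe_mul_of_right_le_normalizer_left _ _ hn] at hm'
    obtain ⟨s, hs, t, ⟨i, rfl⟩, hst⟩ := hm'
    have hai : a ^ i ∈ M := by
      rw [show a ^ i = s⁻¹ * m by rw [← hst]; simp]
      exact M.mul_mem (M.inv_mem (hlt.le hs)) hm
    have hqi : ¬ (q : ℤ) ∣ i := by
      rintro ⟨k, rfl⟩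
      refine hmS ?_
      rw [← hst]
      simp only [zpow_mul, zpow_natCast, hexp a ha, one_zpow, mul_one]
      exact hs
    obtain ⟨u, v, huv⟩ : IsCoprime (q : ℤ) i :=
      (Nat.prime_iff_prime_int.1 hq.out).coprime_iff_not_dvd.2 hqi
    rw [show a = (a ^ i) ^ v from by
      conv_lhs => rw [← zpow_one a, ← huv, zpow_add, mul_comm u, zpow_mul, zpow_natCast, hexp a ha, one_zpow, one_mul]
      rw [← zpow_mul, mul_comm]]
    exact M.zpow_mem hai _
  intro x hx
  refine generated_by_fix hE hq2 (hcomm a ha b hb) (hexp a ha) (hexp b hb) S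
    (hKodd.of_dvd_nat (Subgroup.card_dvd_of_le hS)) (fun s hs => hcomm s (hS hs) a ha)
    (fun s hs => hcomm s (hS hs) b hb) haS hbn _ hZ (fun c hc' hcS => ?_) hx
  obtain ⟨i, j, rfl⟩ := hc'
  have hcK : S ⊔ Subgroup.zpowers (a ^ i * b ^ j) ≤ K :=
    sup_le hS (Subgroup.zpowers_le.2 (K.mul_mem (K.pow_mem ha i) (K.pow_mem hb j)))
  refine ih _ ?_ _ hcK rfl
  have h1 : Nat.card S < Nat.card ↥(S ⊔ Subgroup.zpowers (a ^ i * b ^ j)) := by
    refine lt_of_le_of_ne (Subgroup.card_le_of_le le_sup_left) fun e => hcS ?_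
    rw [Subgroup.eq_of_le_of_card_ge le_sup_left e.ge]
    exact Subgroup.mem_sup_right (Subgroup.mem_zpowers _)
  have h2 := Subgroup.card_le_of_le hcK
  omega

/-- Two complementary parts of the family give a central product decomposition. -/
theorem family_split (hE : IsExtraspecial 2 E) {q : ℕ} [Fact q.Prime] (hq2 : q ≠ 2)
    (hKodd : Odd (Nat.card K)) (hcomm : ∀ a ∈ K, ∀ b ∈ K, a * b = b * a)
    (hexp : ∀ a ∈ K, a ^ q = 1) (hKfix : fix K ≤ Subgroup.center E)
    (P : Subgroup (MulAut E) → Prop) (hP : ∃ L, Maxl K L ∧ P L) (hP' : ∃ L, Maxl K L ∧ ¬ P L) :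
    Split E (span K P) (span K fun L => ¬ P L) := by
  refine ⟨?_, ?_, ?_, ?_⟩
  · intro a ha b hb
    have hfix : ∀ L, Maxl K L → P L → ∀ M, Maxl K M → ¬ P M → ∀ x ∈ fix L, ∀ y ∈ fix M, x * y = y * x := by
      intro L hL hLP M hM hMP x hx y hy
      refine fix_commute hE L M (hKodd.of_dvd_nat (Subgroup.card_dvd_of_le hL.1))
        (hKodd.of_dvd_nat (Subgroup.card_dvd_of_le hM.1)) (fun l hl s hs => hcomm l (hL.1 hl) s (hM.1 hs))
        ?_ hx hy
      refine hL.2.2 _ (sup_le hL.1 hM.1) (lt_of_le_of_ne le_sup_left fun e => ?_)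
      have hML : M ≤ L := e.symm ▸ le_sup_right
      rcases hML.eq_or_lt with e' | hlt
      · exact hMP (e' ▸ hLP)
      · exact hL.2.1 (hM.2.2 L hL.1 hlt)
    have h1 : span K P ≤ Subgroup.centralizer (span K (fun L => ¬ P L) : Set E) := by
      refine sup_le (fun z hz y _ => Subgroup.mem_center_iff.1 hz y) (iSup_le fun L x hx => ?_)
      have h2 : span K (fun L => ¬ P L) ≤ Subgroup.centralizer ({x} : Set E) := by
        refine sup_le (fun z hz y _ => Subgroup.mem_center_iff.1 hz y) (iSup_le fun M y hy z hz => ?_)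
        rw [Set.mem_singleton_iff] at hz
        subst hz
        exact hfix L.1 L.2.1 L.2.2 M.1 M.2.1 M.2.2 z hx y hy
      exact fun y hy => (h2 hy x rfl).symm
    exact (h1 ha b hb).symm
  · refine top_le_iff.1 fun x _ => fix_le_two_spans hE hq2 hKodd hcomm hexp hKfix P ⊥ bot_le ?_
    intro s hs
    rw [Subgroup.mem_bot.1 hs, MulAut.one_apply]
  · obtain ⟨L, hL, hLP⟩ := hP
    exact fun h => hL.2.1 ((fix_le_span hL hLP).trans h)
  · obtain ⟨L, hL, hLP⟩ := hP'
    exact fun h => hL.2.1 ((fix_le_span (P := fun L => ¬ P L) hL hLP).trans h)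

end Cfsg.Agent.Char.ExtraExt
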