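import Cfsg.Agent.Lib.Char.Coprime
import Cfsg.Agent.Lib.Char.RestrictIrred
import Cfsg.Agent.Lib.Char.ExtraspecialChar
import Mathlib

/-!
Extensions of the faithful character of an extraspecial two-group inside its holomorph.
-/

set_option autoImplicit false
set_option linter.unusedSectionVars false
set_option linter.style.haveILetI false
open scoped ComplexConjugate
open Cfsg

namespace Cfsg.Agent.Char.ExtraExt

universe u

/-- Determinants commute with composition. -/
theorem detChar_comp {A B : Type u} [Group A] [Group B] [Finite A] [Finite B] {χ : A → ℂ}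
    (hχ : IsCharacter A χ) (f : B →* A) : detChar (fun b => χ (f b)) = fun b => detChar χ (f b) := by
  obtain ⟨d, ρ, rfl⟩ := hχ
  rw [detChar_eq (ρ.comp f) (χ := fun b => ρ.character (f b)) rfl, detChar_eq ρ rfl]
  rfl

variable (E : Type u) [Group E]

/-- The holomorph. -/
abbrev Hol : Type u := E ⋊[MonoidHom.id (MulAut E)] MulAut E

instance [Finite E] : Finite (Hol E) := Finite.of_equiv _ SemidirectProduct.equivProd.symm

variable {E}

/-- The preimage in the holomorph of a group of automorphisms. -/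
def HU (U : Subgroup (MulAut E)) : Subgroup (Hol E) := U.comap SemidirectProduct.rightHom

theorem mem_HU {U : Subgroup (MulAut E)} {x : Hol E} : x ∈ HU U ↔ x.right ∈ U := Iff.rfl

theorem inl_mem_HU (U : Subgroup (MulAut E)) (e : E) :
    (SemidirectProduct.inl e : Hol E) ∈ HU U := U.one_mem

theorem HU_mono {U V : Subgroup (MulAut E)} (h : U ≤ V) : HU U ≤ HU V := fun _ hx => h hx

/-- The copy of `E` in a preimage. -/
def inlTo (U : Subgroup (MulAut E)) : E →* HU U :=
  (SemidirectProduct.inl : E →* Hol E).codRestrict (HU U) (inl_mem_HU U)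

theorem card_HU [Finite E] (U : Subgroup (MulAut E)) :
    Nat.card (HU U) = Nat.card E * Nat.card U := by
  rw [← Nat.card_prod]
  exact Nat.card_congr
    { toFun := fun x => (x.1.left, ⟨x.1.right, x.2⟩)
      invFun := fun p => ⟨⟨p.1, p.2.1⟩, p.2.2⟩
      left_inv := fun _ => rfl
      right_inv := fun _ => rfl }

/-- `f` gives an irreducible character of the preimage of `U` extending `θ`. -/
def Ext (θ : E → ℂ) (U : Subgroup (MulAut E)) (f : Hol E → ℂ) : Prop :=
  IsIrrCharacter (HU U) (fun x => f x) ∧ ∀ e : E, f (SemidirectProduct.inl e) = θ e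

variable [Finite E]

theorem irr_of_inl {θ : E → ℂ} (hθ : IsIrrCharacter E θ) {U : Subgroup (MulAut E)} {χ : HU U → ℂ}
    (hχ : IsCharacter (HU U) χ) (h : ∀ e : E, χ (inlTo U e) = θ e) : IsIrrCharacter (HU U) χ := by
  classical
  haveI := Fintype.ofFinite E
  haveI := Fintype.ofFinite (HU U)
  refine isIrr_of_comp_irr (inlTo U) hχ ?_
  rw [show (fun x => χ (inlTo U x)) = θ from funext h]
  exact hθ

theorem Ext.mono {θ : E → ℂ} (hθ : IsIrrCharacter E θ) {U V : Subgroup (MulAut E)} (hUV : U ≤ V)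
    {f : Hol E → ℂ} (h : Ext θ V f) : Ext θ U f :=
  ⟨irr_of_inl hθ (isCharacter_comp (Subgroup.inclusion (HU_mono hUV)) (irr_isCharacter h.1)) h.2,
    h.2⟩

/-- An invariant extension extends over a cyclic quotient. -/
theorem Ext.cyclic {θ : E → ℂ} {U V : Subgroup (MulAut E)} (hUV : U ≤ V)
    [(U.subgroupOf V).Normal] (hcyc : IsCyclic (V ⧸ U.subgroupOf V)) {f : Hol E → ℂ} (h : Ext θ U f)
    (hinv : ∀ g ∈ HU V, ∀ x ∈ HU U, f (g * x * g⁻¹) = f x) :
    ∃ f' : Hol E → ℂ, Ext θ V f' := by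
  classical
  let pr : HU V →* V := (SemidirectProduct.rightHom.comp (HU V).subtype).codRestrict V fun x => x.2
  have hpr : Function.Surjective pr := fun v => ⟨⟨SemidirectProduct.inr v.1, v.2⟩, rfl⟩
  let q : HU V →* V ⧸ U.subgroupOf V := (QuotientGroup.mk' _).comp pr
  have hker : q.ker = (HU U).subgroupOf (HU V) := by
    ext x
    simp only [q, MonoidHom.mem_ker, MonoidHom.comp_apply, QuotientGroup.mk'_apply,
      QuotientGroup.eq_one_iff, Subgroup.mem_subgroupOf]
    rfl
  haveI : ((HU U).subgroupOf (HU V)).Normal := hker ▸ inferInstance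
  haveI : IsCyclic (HU V ⧸ (HU U).subgroupOf (HU V)) := by
    let e := (QuotientGroup.quotientMulEquivOfEq hker.symm).trans
      (QuotientGroup.quotientKerEquivOfSurjective q ((QuotientGroup.mk'_surjective _).comp hpr))
    exact isCyclic_of_surjective e.symm.toMonoidHom e.symm.surjective
  haveI := Fintype.ofFinite (HU U)
  haveI := Fintype.ofFinite ((HU U).subgroupOf (HU V))
  let i := Subgroup.subgroupOfEquivOfLe (HU_mono hUV)
  have hirr : IsIrrCharacter ((HU U).subgroupOf (HU V))
      (fun n : (HU U).subgroupOf (HU V) => f (n.1 : Hol E)) := by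
    refine isIrr_of_comp_irr i.symm.toMonoidHom (isCharacter_comp i.toMonoidHom (irr_isCharacter h.1)) ?_
    exact h.1
  obtain ⟨χ, hχ, hres⟩ := exists_extension_cyclic ((HU U).subgroupOf (HU V)) inferInstance hirr
    (fun g n => by
      simp only [MulAut.conjNormal_apply, Subgroup.coe_mul, Subgroup.coe_inv]
      exact hinv g g.2 n.1 n.2)
  refine ⟨extendByZero (HU V) χ, ?_, fun e => ?_⟩
  · rwa [show (fun x : HU V => extendByZero (HU V) χ x) = χ from
      funext fun x => extendByZero_mem (HU V) χ x.2]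
  · rw [extendByZero_mem (HU V) χ (inl_mem_HU V e),
      hres ⟨⟨_, inl_mem_HU V e⟩, inl_mem_HU U e⟩]
    exact h.2 e

section Faithful

variable (hE : IsExtraspecial 2 E)
include hE

/-- An extraspecial two-group has one nonlinear irreducible character. -/
theorem nonlinear_unique {θ θ' : E → ℂ} (h : IsIrrCharacter E θ) (h' : IsIrrCharacter E θ')
    (h1 : θ 1 ≠ 1) (h1' : θ' 1 ≠ 1) : θ' = θ := by
  haveI := Fintype.ofFinite E
  haveI : Fact (Nat.Prime 2) := ⟨Nat.prime_two⟩
  obtain ⟨n, -, hcard, -⟩ := Cfsg.Agent.Solv.extraspecial_card hE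
  obtain ⟨hdeg, hcount⟩ := extraspecial_degrees hE hcard
  obtain ⟨a, ha⟩ := Nat.card_eq_one_iff_exists.1 hcount
  have e := ha ⟨⟨θ, h⟩, (hdeg ⟨θ, h⟩).resolve_left h1⟩
  have e' := ha ⟨⟨θ', h'⟩, (hdeg ⟨θ', h'⟩).resolve_left h1'⟩
  exact congrArg (fun x => ((x.1 : IrrCharacter E) : E → ℂ)) (e'.trans e.symm)

theorem aut_invariant {θ : E → ℂ} (h : IsIrrCharacter E θ) (h1 : θ 1 ≠ 1) (α : MulAut E) (e : E) :
    θ (α e) = θ e := by
  haveI := Fintype.ofFinite E
  have h' : IsIrrCharacter E (fun x => θ (α x)) := by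
    refine isIrr_of_comp_irr α.symm.toMonoidHom (isCharacter_comp α.toMonoidHom (irr_isCharacter h)) ?_
    rw [show (fun x => θ (α (α.symm.toMonoidHom x))) = θ from funext fun x => by simp]
    exact h
  exact congrFun (nonlinear_unique hE h h' h1 (by simpa using h1)) e

theorem degree_pow {θ : E → ℂ} (h : IsIrrCharacter E θ) (h1 : θ 1 ≠ 1) :
    ∃ n : ℕ, 0 < n ∧ Nat.card E = 2 ^ (2 * n + 1) ∧ θ 1 = ((2 ^ n : ℕ) : ℂ) := by
  haveI := Fintype.ofFinite E
  haveI : Fact (Nat.Prime 2) := ⟨Nat.prime_two⟩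
  obtain ⟨n, hn, hcard, -⟩ := Cfsg.Agent.Solv.extraspecial_card hE
  refine ⟨n, hn, hcard, ?_⟩
  rw [show θ 1 = _ from ((extraspecial_degrees hE hcard).1 ⟨θ, h⟩).resolve_left h1]
  push_cast
  ring

theorem center_fixed (α : MulAut E) {z : E} (hz : z ∈ Subgroup.center E) : α z = z := by
  have hmem : α z ∈ Subgroup.center E := Subgroup.mem_center_iff.mpr fun g => by
    obtain ⟨g, rfl⟩ := α.surjective g
    rw [← map_mul, ← map_mul, Subgroup.mem_center_iff.mp hz]
  obtain ⟨a, b, -, hab⟩ := Nat.card_eq_two_iff.1 hE.2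
  have hall : ∀ w : Subgroup.center E, w = a ∨ w = b := fun w => by
    have : w ∈ ({a, b} : Set (Subgroup.center E)) := hab ▸ Set.mem_univ w
    simpa using this
  by_contra hne
  have hz1 : z ≠ 1 := fun h => hne (by rw [h, map_one])
  have h1 : α z ≠ 1 := fun h => hz1 (α.injective (h.trans (map_one α).symm))
  have ha := hall ⟨z, hz⟩
  have hb := hall ⟨α z, hmem⟩
  have hc := hall 1
  have d1 : (⟨z, hz⟩ : Subgroup.center E) ≠ 1 := fun h => hz1 (congrArg Subtype.val h)
  have d2 : (⟨α z, hmem⟩ : Subgroup.center E) ≠ 1 := fun h => h1 (congrArg Subtype.val h)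
  have d3 : (⟨α z, hmem⟩ : Subgroup.center E) ≠ ⟨z, hz⟩ := fun h => hne (congrArg Subtype.val h)
  rcases ha with ha | ha <;> rcases hb with hb | hb <;> rcases hc with hc | hc <;> simp_all

end Faithful

end Cfsg.Agent.Char.ExtraExt
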