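import Cfsg.Agent.Lib.Char.Coprime
import Cfsg.Agent.Lib.Char.Linear
import Mathlib

/-!
The isotypic part, for a linear character of a central-type factor, of a character of a
commuting pair, and its determinant.
-/

set_option autoImplicit false
set_option linter.unusedSectionVars false
open scoped ComplexConjugate
open Cfsg

namespace Cfsg.Agent.Char.ExtraExt

universe u

variable {A K : Type u} [Group A] [Group K] [Fintype A] [Fintype K]

/-- The `lam`-part of a function on `A × K`. -/
noncomputable def lamPart (lam : K →* ℂˣ) (f : A × K → ℂ) : A → ℂ := fun a =>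
  (Nat.card K : ℂ)⁻¹ * ∑ k : K, (lam k⁻¹ : ℂ) * f (a, k)

theorem lam_inv (lam : K →* ℂˣ) (k : K) : (lam k⁻¹ : ℂ) = conj (lam k : ℂ) :=
  char_inv (isCharacter_linear lam) k

theorem lamPart_class (lam : K →* ℂˣ) {f : A × K → ℂ} (hf : IsClassFunction (A × K) f) :
    IsClassFunction A (lamPart lam f) := fun g h => by
  simp only [lamPart]
  congr 1
  refine Finset.sum_congr rfl fun k _ => ?_
  congr 1
  have := hf (g, k) (h, 1)
  simpa using this

theorem isCharacter_lamPart (lam : K →* ℂˣ) {f : A × K → ℂ} (hf : IsCharacter (A × K) f) :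
    IsCharacter A (lamPart lam f) := by
  classical
  have hnat : ∀ ψ : IrrCharacter A, ∃ n : ℕ, classInner (lamPart lam f) (ψ : A → ℂ) = n := by
    intro ψ
    obtain ⟨n, hn⟩ := classInner_natCast hf
      (isCharacter_mul (isCharacter_comp (MonoidHom.fst A K) (irr_isCharacter ψ.2))
        (isCharacter_comp (MonoidHom.snd A K) (isCharacter_linear lam)))
    refine ⟨n, hn ▸ ?_⟩
    simp only [classInner, Fintype.sum_prod_type, Nat.card_prod, Nat.cast_mul, mul_inv, lamPart,
      Pi.mul_apply, Function.comp_apply, MonoidHom.coe_fst, MonoidHom.coe_snd, map_mul, Finset.mul_sum, Finset.sum_mul]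
    refine Finset.sum_congr rfl fun a _ => Finset.sum_congr rfl fun k _ => ?_
    rw [lam_inv]
    ring
  choose n hn using hnat
  have h := classFun_expansion (lamPart_class lam (isClassFunction_character hf))
  rw [h]
  refine isCharacter_sum _ _ fun ψ _ => ?_
  rw [hn ψ, Nat.cast_smul_eq_nsmul]
  exact isCharacter_nsmul (irr_isCharacter ψ.2) _

theorem lamPart_one (lam : K →* ℂˣ) (f : A × K → ℂ) :
    lamPart lam f 1 = (Nat.card K : ℂ)⁻¹ * ∑ k : K, (lam k⁻¹ : ℂ) * f (1, k) := rfl

/-- An element acting by a scalar in a character multiplies the determinant by a power of it. -/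
theorem det_scalar {m : ℕ} (ρ : Representation ℂ A (Fin m → ℂ)) {z : A} {s : ℂ}
    (hs : ‖s‖ = 1) (hz : ρ.character z = s * m) : (detHom ρ z : ℂ) = s ^ m := by
  have hd : ρ.character 1 = (m : ℂ) := by simp
  have hfull : ‖ρ.character z‖ = (m : ℝ) := by rw [hz, norm_mul, hs, one_mul, Complex.norm_natCast]
  obtain ⟨t, ht⟩ := (eq_scalar_iff ρ z).mp (by rw [hfull, Module.finrank_fin_fun])
  rw [detHom_apply, ht, LinearMap.det_smul, LinearMap.det_id, mul_one, Module.finrank_fin_fun]
  rcases Nat.eq_zero_or_pos m with rfl | hm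
  · simp
  · congr 1
    have h1 : ρ.character z = t * m := by
      rw [Representation.character, ht, map_smul, LinearMap.trace_id, smul_eq_mul,
        Module.finrank_fin_fun]
    exact mul_right_cancel₀ (Nat.cast_ne_zero.2 hm.ne') (h1.symm.trans hz)

/-- The determinant of a twist by a linear character. -/
theorem detChar_linear_mul {χ : A → ℂ} (hχ : IsCharacter A χ) {m : ℕ} (hm : χ 1 = m)
    (β : A →* ℂˣ) :
    detChar (fun g => (β g : ℂ) * χ g) = fun g => (β g : ℂ) ^ m * detChar χ g := by
  obtain ⟨a, ρ, rfl⟩ := hχ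
  obtain rfl : a = m := by
    rw [char_one_eq_dim ρ rfl] at hm
    exact_mod_cast hm
  let r : Representation ℂ A (Fin a → ℂ) :=
    { toFun := fun g => (β g : ℂ) • ρ g
      map_one' := by simp
      map_mul' := fun g h => by rw [map_mul, map_mul, Units.val_mul, smul_mul_smul_comm] }
  rw [detChar_eq r (funext fun g => ?_), detChar_eq ρ rfl]
  · funext g
    show LinearMap.det ((β g : ℂ) • ρ g) = _
    rw [LinearMap.det_smul, Module.finrank_fin_fun]
  · show LinearMap.trace ℂ _ ((β g : ℂ) • ρ g) = _
    rw [map_smul, smul_eq_mul]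
    rfl

theorem lamPart_linear_mul (lam : K →* ℂˣ) (β : A →* ℂˣ) (f : A × K → ℂ) :
    lamPart lam (fun p => (β p.1 : ℂ) * f p) = fun a => (β a : ℂ) * lamPart lam f a := by
  funext a
  simp only [lamPart, Finset.mul_sum]
  exact Finset.sum_congr rfl fun k _ => by ring

end Cfsg.Agent.Char.ExtraExt
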