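import Cfsg.Agent.Lib.Char.ExtraExt.Base
import Cfsg.Agent.Lib.Char.ExtraExt.Family
import Cfsg.Agent.Lib.Solv.PGroupPhi
import Mathlib

/-!
The faithful character of an extraspecial two-group extends over every two-group of automorphisms
normalising an odd order solvable group without fixed points on the central quotient.
-/

set_option autoImplicit false
set_option linter.unusedSectionVars false
set_option linter.style.haveILetI false
open scoped commutatorElement
open Cfsg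

namespace Cfsg.Agent.Char.ExtraExt

universe u

variable {E : Type u} [Group E] [Finite E]

/-- The hypotheses of the recursion. -/
structure Data (T K : Subgroup (MulAut E)) : Prop where
  two : IsPGroup 2 T
  odd : Odd (Nat.card K)
  solv : Group.IsSolvable K
  norm : T ≤ Subgroup.normalizer (K : Set (MulAut E))
  nofix : fix K ≤ Subgroup.center E

theorem Data.restrict (hE : IsExtraspecial 2 E) {T T₀ K : Subgroup (MulAut E)} (h : Data T K) {A B : Subgroup E}
    (hs : Split E A B) (hT₀ : T₀ ≤ T) (hTA : T₀ ≤ stab A) (hKA : K ≤ stab A) :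
    Data (img A T₀) (img A K) := by
  refine ⟨?_, ?_, ?_, ?_, ?_⟩
  · exact ((h.two.to_le hT₀).comap_of_injective (stab A).subtype (Subgroup.subtype_injective _)).map _
  · have h1 : Nat.card (img A K) ∣ Nat.card (K.subgroupOf (stab A)) := Subgroup.card_map_dvd _ _
    rw [Nat.card_congr (Subgroup.subgroupOfEquivOfLe hKA).toEquiv] at h1
    exact h.odd.of_dvd_nat h1
  · haveI := h.solv
    haveI : Group.IsSolvable (K.subgroupOf (stab A)) :=
      solvable_of_solvable_injective (f := (Subgroup.subgroupOfEquivOfLe hKA).toMonoidHom)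
        (Subgroup.subgroupOfEquivOfLe hKA).injective
    exact Group.isSolvable_of_surjective ((res A).subgroupMap_surjective (K.subgroupOf (stab A)))
  · rintro - ⟨t, ht, rfl⟩
    have hn := h.norm (hT₀ ht)
    refine Subgroup.mem_normalizer_iff.2 fun y => ⟨?_, ?_⟩
    · rintro ⟨k, hk, rfl⟩
      exact ⟨t * k * t⁻¹, (Subgroup.mem_normalizer_iff.1 hn k.1).1 hk, by simp⟩
    · rintro ⟨k, hk, hky⟩
      refine ⟨t⁻¹ * k * t, ?_, ?_⟩
      · show (t.1⁻¹ * k.1 * t.1) ∈ K
        have := (Subgroup.mem_normalizer_iff.1 (inv_mem hn) k.1).1 hk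
        simpa using this
      · rw [map_mul, map_mul, map_inv, hky]
        group
  · intro x hx
    refine (hs.mem_center hE x).2 (h.nofix fun k hk => ?_)
    exact congrArg Subtype.val (hx _ (res_mem_img ⟨k, hKA hk⟩ hk))

theorem Split.card_lt (hE : IsExtraspecial 2 E) {A B : Subgroup E} (hs : Split E A B) :
    Nat.card A < Nat.card E := by
  refine lt_of_le_of_ne (Subgroup.card_le_card_group A) fun e => hs.rightNC fun b hb => ?_
  have hA : A = ⊤ := Subgroup.eq_top_of_card_eq A e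
  exact Subgroup.mem_center_iff.2 fun g => hs.comm g (hA ▸ Subgroup.mem_top g) b hb

/-- The recursive hypothesis. -/
def Holds (n : ℕ) : Prop :=
  ∀ {E : Type u} [Group E] [Finite E], Nat.card E < n → IsExtraspecial 2 E →
    ∀ (T K : Subgroup (MulAut E)), Data T K → ∀ θ : E → ℂ, IsIrrCharacter E θ → θ 1 ≠ 1 →
      ∃ f, Ext θ T f

theorem ext_of_split (hE : IsExtraspecial 2 E) (ih : Holds.{u} (Nat.card E)) {T K : Subgroup (MulAut E)}
    (h : Data T K) {A B : Subgroup E} (hs : Split E A B) (hTA : T ≤ stab A) (hTB : T ≤ stab B)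
    (hKA : K ≤ stab A) (hKB : K ≤ stab B) {θ : E → ℂ} (hθ : IsIrrCharacter E θ) (h1 : θ 1 ≠ 1) :
    ∃ f, Ext θ T f := by
  obtain ⟨θA, hA, hA1⟩ := exists_nonlinear (hs.extraspecial hE)
  obtain ⟨θB, hB, hB1⟩ := exists_nonlinear (hs.symm.extraspecial hE)
  obtain ⟨fA, hfA⟩ := ih (hs.card_lt hE) (hs.extraspecial hE) _ _ (h.restrict hE hs le_rfl hTA hKA) θA hA hA1
  obtain ⟨fB, hfB⟩ := ih (hs.symm.card_lt hE) (hs.symm.extraspecial hE) _ _
    (h.restrict hE hs.symm le_rfl hTB hKB) θB hB hB1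
  obtain ⟨f, hf, -⟩ := hs.exists_tensor hE hθ h1 hA hA1 hB hB1 hTA hTB hfA hfB
  exact ⟨f, hf⟩

/-- An element of `T` exchanging the two factors. -/
theorem ext_of_swap (hE : IsExtraspecial 2 E) (ih : Holds.{u} (Nat.card E)) {T K : Subgroup (MulAut E)}
    (h : Data T K) {A B : Subgroup E} (hs : Split E A B) {T₀ : Subgroup (MulAut E)} (hT₀ : T₀ ≤ T)
    (hidx : (T₀.subgroupOf T).index = 2) (hTA : T₀ ≤ stab A) (hTB : T₀ ≤ stab B)
    (hKA : K ≤ stab A) {t : MulAut E} (ht : t ∈ T) (htT₀ : t ∉ T₀) (htA : ∀ x ∈ A, t x ∈ B)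
    (htB : ∀ x ∈ B, t x ∈ A) {θ : E → ℂ} (hθ : IsIrrCharacter E θ) (h1 : θ 1 ≠ 1) :
    ∃ f, Ext θ T f := by
  classical
  obtain ⟨θA, hA, hA1⟩ := exists_nonlinear (hs.extraspecial hE)
  obtain ⟨fA, hfA⟩ := ih (hs.card_lt hE) (hs.extraspecial hE) _ _ (h.restrict hE hs hT₀ hTA hKA) θA hA hA1
  haveI hn : (T₀.subgroupOf T).Normal := Subgroup.normal_of_index_eq_two hidx
  have hconj : ∀ u ∈ T₀, t * u * t⁻¹ ∈ T₀ := fun u hu =>
    hn.conj_mem (⟨u, hT₀ hu⟩ : T) hu ⟨t, ht⟩
  have ht2 : t * t ∈ T₀ := by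
    rcases (Subgroup.mul_mem_iff_of_index_two hidx (a := (⟨t, ht⟩ : T)) (b := ⟨t, ht⟩)).2 Iff.rfl with h
    exact h
  -- transport along `t`
  let τ : B ≃* A :=
    { toFun := fun b => ⟨t b, htB b b.2⟩
      invFun := fun a => ⟨t⁻¹ a, by
        have h1 : t ((t * t)⁻¹ a.1) ∈ B := htA _ ((((stab A).inv_mem (hTA ht2)) a.1).1 a.2)
        rwa [mul_inv_rev, MulAut.mul_apply, MulAut.apply_inv_self] at h1⟩
      left_inv := fun b => Subtype.ext (MulAut.inv_apply_self E t b.1)
      right_inv := fun a => Subtype.ext (MulAut.apply_inv_self E t a.1)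
      map_mul' := fun x y => Subtype.ext (map_mul t x.1 y.1) }
  let Φ : Hol B →* Hol A := SemidirectProduct.map τ.toMonoidHom (MulAut.congr τ).toMonoidHom fun α =>
    MonoidHom.ext fun b => by simp
  have hΦres : ∀ (u : MulAut E) (hu : u ∈ T₀) (b : B),
      Φ ⟨b, res B ⟨u, hTB hu⟩⟩ = ⟨τ b, res A ⟨t * u * t⁻¹, hTA (hconj u hu)⟩⟩ := fun u hu b => by
    refine SemidirectProduct.ext rfl (MulEquiv.ext fun a => Subtype.ext ?_)
    rfl
  have hΦmem : ∀ y ∈ HU (img B T₀), Φ y ∈ HU (img A T₀) := by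
    intro y hy
    obtain ⟨u, hu, hu'⟩ := hy
    have hy' : y = ⟨y.left, res B u⟩ := SemidirectProduct.ext rfl hu'.symm
    rw [hy', hΦres u.1 hu]
    exact res_mem_img _ (hconj u.1 hu)
  let θB : B → ℂ := fun b => θA (τ b)
  haveI := Fintype.ofFinite A
  haveI := Fintype.ofFinite B
  have hB : IsIrrCharacter B θB := by
    refine isIrr_of_comp_irr τ.symm.toMonoidHom (isCharacter_comp τ.toMonoidHom (irr_isCharacter hA)) ?_
    rw [show (fun a => θB (τ.symm.toMonoidHom a)) = θA from funext fun a => by simp [θB]]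
    exact hA
  have hB1 : θB 1 ≠ 1 := by simpa [θB] using hA1
  let fB : Hol B → ℂ := fun y => fA (Φ y)
  have hfB : Ext θB (img B T₀) fB := by
    have hres : ∀ b : B, fB (SemidirectProduct.inl b) = θB b := fun b => by
      rw [show fB (SemidirectProduct.inl b) = fA (Φ (SemidirectProduct.inl b)) from rfl,
        SemidirectProduct.map_inl, hfA.2]
      rfl
    let ΦU : HU (img B T₀) →* HU (img A T₀) :=
      (Φ.comp (HU (img B T₀)).subtype).codRestrict _ fun y => hΦmem y.1 y.2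
    exact ⟨irr_of_inl hB (χ := fun x : HU (img B T₀) => fB x)
      (isCharacter_comp ΦU (irr_isCharacter hfA.1)) hres, hres⟩
  obtain ⟨f, hf, hform⟩ := hs.exists_tensor hE hθ h1 hA hA1 hB hB1 hTA hTB hfA hfB
  have hclass : ∀ y ∈ HU T₀, ∀ x ∈ HU T₀, f (y * x * y⁻¹) = f x := fun y hy x hx =>
    isClassFunction_character (irr_isCharacter hf.1) ⟨x, hx⟩ ⟨y, hy⟩
  set τt : Hol E := SemidirectProduct.inr t with hτt
  have hinv : ∀ x ∈ HU T₀, f (τt * x * τt⁻¹) = f x := by
    intro x hx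
    obtain ⟨a, ha, b, hb, hab⟩ := hs.decomp x.left
    have hx' : x = ⟨((⟨a, ha⟩ : A) : E) * ((⟨b, hb⟩ : B) : E), x.right⟩ := SemidirectProduct.ext hab rfl
    have e : τt * x * τt⁻¹ = ⟨((⟨t b, htB b hb⟩ : A) : E) * ((⟨t a, htA a ha⟩ : B) : E),
        t * x.right * t⁻¹⟩ := by
      refine SemidirectProduct.ext ?_ ?_
      · simp [τt, hab, hs.comm (t b) (htB b hb) (t a) (htA a ha)]
      · simp [τt]
    have hxr : x.right ∈ T₀ := hx
    conv_rhs => rw [hx', hform ⟨a, ha⟩ ⟨b, hb⟩ x.right hxr]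
    rw [e, hform ⟨t b, htB b hb⟩ ⟨t a, htA a ha⟩ (t * x.right * t⁻¹) (hconj x.right hxr)]
    show fA _ * fA (Φ _) = fA _ * fA (Φ _)
    rw [hΦres x.right hxr, hΦres (t * x.right * t⁻¹) (hconj x.right hxr), mul_comm]
    congr 1
    -- conjugation by the square
    have hmemt2 : (⟨1, res A ⟨t * t, hTA ht2⟩⟩ : Hol A) ∈ HU (img A T₀) := res_mem_img _ ht2
    have hmemx : (⟨⟨a, ha⟩, res A ⟨x.right, hTA hxr⟩⟩ : Hol A) ∈ HU (img A T₀) := res_mem_img _ hxr
    refine Eq.trans ?_ (isClassFunction_character (irr_isCharacter hfA.1) ⟨_, hmemx⟩ ⟨_, hmemt2⟩)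
    show fA _ = fA (_ * _ * _⁻¹)
    congr 1
    refine SemidirectProduct.ext ?_ ?_
    · refine Subtype.ext ?_
      simp [τ]
      rfl
    · refine MulEquiv.ext fun y => Subtype.ext ?_
      simp
      rfl
  have hinv' : ∀ g ∈ HU T, ∀ x ∈ HU T₀, f (g * x * g⁻¹) = f x := by
    intro g hg x hx
    by_cases hg0 : g.right ∈ T₀
    · exact hclass g hg0 x hx
    · have hy : g * τt⁻¹ ∈ HU T₀ := by
        show (g * τt⁻¹).right ∈ T₀
        rw [SemidirectProduct.mul_right, SemidirectProduct.inv_right, hτt, SemidirectProduct.right_inr]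
        have h1 : (⟨t, ht⟩ : T)⁻¹ ∉ T₀.subgroupOf T := fun h => htT₀ (inv_mem_iff.1 h)
        exact (Subgroup.mul_mem_iff_of_index_two hidx (a := (⟨g.right, hg⟩ : T)) (b := (⟨t, ht⟩ : T)⁻¹)).2
          (iff_of_false hg0 h1)
      have hcx : τt * x * τt⁻¹ ∈ HU T₀ := by
        show (τt * x * τt⁻¹).right ∈ T₀
        rw [SemidirectProduct.mul_right, SemidirectProduct.mul_right, SemidirectProduct.inv_right, hτt,
          SemidirectProduct.right_inr]
        exact hconj _ hx
      rw [show g * x * g⁻¹ = (g * τt⁻¹) * (τt * x * τt⁻¹) * (g * τt⁻¹)⁻¹ by group, hclass _ hy _ hcx,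
        hinv x hx]
  haveI : Fact (Nat.Prime 2) := ⟨Nat.prime_two⟩
  haveI : IsCyclic (T ⧸ T₀.subgroupOf T) := isCyclic_of_prime_card (p := 2)
    (by rw [← Subgroup.index_eq_card, hidx])
  exact hf.cyclic hT₀ inferInstance hinv'

theorem ext_main (n : ℕ) : Holds.{u} n := by
  induction n using Nat.strong_induction_on with
  | _ n ihn =>
  intro E _ _ hlt hE T K h θ hθ h1
  have ih : Holds.{u} (Nat.card E) := ihn _ hlt
  induction hk : Nat.card K using Nat.strong_induction_on generalizing K with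
  | _ k ihK =>
  obtain ⟨hT2, hKodd, hKsolv, hTK, hKfix⟩ := id h
  haveI := hKsolv
  haveI : Fact (Nat.Prime 2) := ⟨Nat.prime_two⟩
  have hZne : ¬ (⊤ : Subgroup E) ≤ Subgroup.center E := fun hle => by
    obtain ⟨m, hm, hcard, -⟩ := Cfsg.Agent.Solv.extraspecial_card hE
    have h2 := Subgroup.card_le_of_le hle
    rw [Subgroup.card_top, hE.2, hcard] at h2
    have : 2 ^ 2 ≤ 2 ^ (2 * m + 1) := Nat.pow_le_pow_right (by norm_num) (by omega)
    omega
  have hKbot : K ≠ ⊥ := fun hb => hZne fun x _ => hKfix fun s hs => by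
    rw [hb, Subgroup.mem_bot] at hs
    rw [hs, MulAut.one_apply]
  by_cases hN : ∃ N : Subgroup (MulAut E), N ≤ K ∧ N ≠ ⊥ ∧ N ≠ K ∧
      K ≤ Subgroup.normalizer (N : Set (MulAut E)) ∧ T ≤ Subgroup.normalizer (N : Set (MulAut E))
  · obtain ⟨N, hNK, hNb, hNne, hKN, hTN⟩ := hN
    have hNodd : Odd (Nat.card N) := hKodd.of_dvd_nat (Subgroup.card_dvd_of_le hNK)
    by_cases hNfix : fix N ≤ Subgroup.center E
    · haveI : Group.IsSolvable N := solvable_of_solvable_injective (Subgroup.inclusion_injective hNK)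
      exact ihK _ (hk ▸ lt_of_le_of_ne (Subgroup.card_le_of_le hNK) fun e =>
        hNne (Subgroup.eq_of_le_of_card_ge hNK e.ge)) N ⟨hT2, hNodd, inferInstance, hTN, hNfix⟩ rfl
    · -- split off the fixed subgroup
      have hgen := sup_centralizer_fix hE N hNodd
      have hs : Split E (Subgroup.centralizer (fix N : Set E)) (fix N) := by
        refine ⟨fun a ha b hb => (ha b hb).symm, hgen, fun hle => ?_, hNfix⟩
        refine hNb ((Subgroup.eq_bot_iff_forall N).2 fun s hs => MulEquiv.ext fun x => ?_)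
        have hx : x ∈ Subgroup.centralizer (fix N : Set E) ⊔ fix N := hgen ▸ Subgroup.mem_top x
        rw [sup_eq_right.2 (hle.trans (center_le_fix hE N))] at hx
        exact hx s hs
      have hinv : ∀ {U : Subgroup (MulAut E)}, U ≤ Subgroup.normalizer (N : Set (MulAut E)) →
          U ≤ stab (fix N) ∧ U ≤ stab (Subgroup.centralizer (fix N : Set E)) := fun {U} hU =>
        ⟨fun g hg x => (apply_mem_fix (hU hg)).symm, le_stab fun g hg x hx y hy => by
          have hy' : g⁻¹ y ∈ fix N := (apply_mem_fix (inv_mem (hU hg))).2 hy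
          have := congrArg g (hx _ hy')
          rwa [map_mul, map_mul, MulAut.apply_inv_self] at this⟩
      exact ext_of_split hE ih h hs (hinv hTN).2 (hinv hTN).1 (hinv hKN).2 (hinv hKN).1 hθ h1
  push Not at hN
  -- `K` is elementary abelian
  have hcomm : ∀ a ∈ K, ∀ b ∈ K, a * b = b * a := by
    haveI : Nontrivial K := (Subgroup.nontrivial_iff_ne_bot K).2 hKbot
    by_contra hne
    push Not at hne
    obtain ⟨a, ha, b, hb, hab⟩ := hne
    set D := ⁅K, K⁆ with hD
    have hDK : D ≤ K := Subgroup.commutator_le.2 fun x hx y hy => by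
      rw [commutatorElement_def]
      exact K.mul_mem (K.mul_mem (K.mul_mem hx hy) (K.inv_mem hx)) (K.inv_mem hy)
    have hDn : ∀ {U : Subgroup (MulAut E)}, U ≤ Subgroup.normalizer (K : Set (MulAut E)) →
        U ≤ Subgroup.normalizer (D : Set (MulAut E)) := by
      intro U hU g hg
      have hle : ∀ g ∈ Subgroup.normalizer (K : Set (MulAut E)),
          D.map (MulAut.conj g).toMonoidHom ≤ D := fun g hg => by
        rw [hD, Subgroup.map_commutator]
        refine Subgroup.commutator_mono ?_ ?_ <;>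
        · rintro - ⟨m, hm, rfl⟩
          exact (Subgroup.mem_normalizer_iff.1 hg m).1 hm
      refine Subgroup.mem_normalizer_iff.2 fun y => ⟨fun hy => hle g (hU hg) ⟨y, hy, rfl⟩, fun hy => ?_⟩
      have := hle g⁻¹ (inv_mem (hU hg)) ⟨_, hy, rfl⟩
      simpa [mul_assoc] using this
    have hDb : D ≠ ⊥ := fun hb' => hab (commutatorElement_eq_one_iff_mul_comm.1
      (Subgroup.mem_bot.1 (hb' ▸ Subgroup.commutator_mem_commutator ha hb)))
    have hDne : D ≠ K := fun he => by
      have h1 : commutator K < ⊤ := Group.IsSolvable.commutator_lt_top_of_nontrivial K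
      refine h1.ne (Subgroup.map_injective (Subgroup.subtype_injective K) ?_)
      rw [Subgroup.map_subtype_commutator, ← MonoidHom.range_eq_map, Subgroup.range_subtype]
      exact he
    exact hN D hDK hDb hDne (hDn Subgroup.le_normalizer) (hDn hTK)
  obtain ⟨q, hq, hqK⟩ := Nat.exists_prime_and_dvd (n := Nat.card K)
    (fun h => hKbot (Subgroup.card_eq_one.1 h))
  haveI : Fact q.Prime := ⟨hq⟩
  have hq2 : q ≠ 2 := fun h => by
    subst h
    exact (Nat.not_even_iff_odd.2 hKodd) (even_iff_two_dvd.2 hqK)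
  have hexp : ∀ a ∈ K, a ^ q = 1 := by
    let Ω : Subgroup (MulAut E) :=
      { carrier := {a | a ∈ K ∧ a ^ q = 1}
        one_mem' := ⟨K.one_mem, one_pow q⟩
        mul_mem' := fun {a b} ha hb => ⟨K.mul_mem ha.1 hb.1, by
          rw [(show Commute a b from hcomm a ha.1 b hb.1).mul_pow, ha.2, hb.2, one_mul]⟩
        inv_mem' := fun {a} ha => ⟨K.inv_mem ha.1, by rw [inv_pow, ha.2, inv_one]⟩ }
    have hΩn : ∀ {U : Subgroup (MulAut E)}, U ≤ Subgroup.normalizer (K : Set (MulAut E)) →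
        U ≤ Subgroup.normalizer (Ω : Set (MulAut E)) := by
      intro U hU g hg
      refine Subgroup.mem_normalizer_iff.2 fun y => ?_
      show (y ∈ K ∧ y ^ q = 1) ↔ (g * y * g⁻¹ ∈ K ∧ (g * y * g⁻¹) ^ q = 1)
      rw [← Subgroup.mem_normalizer_iff.1 (hU hg) y, conj_pow]
      simp
    obtain ⟨x, hx⟩ := exists_prime_orderOf_dvd_card' q hqK
    have hΩb : Ω ≠ ⊥ := fun hb => by
      have hmem : (x : MulAut E) ∈ Ω := ⟨x.2, by
        rw [← Subgroup.coe_pow, ← hx, pow_orderOf_eq_one, Subgroup.coe_one]⟩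
      rw [hb, Subgroup.mem_bot] at hmem
      rw [show x = 1 from Subtype.ext hmem, orderOf_one] at hx
      exact hq.one_lt.ne hx
    intro a ha
    by_contra hne
    exact hN Ω (fun a ha => ha.1) hΩb (fun e => hne (by
      have : a ∈ Ω := e.symm ▸ ha
      exact this.2)) (hΩn Subgroup.le_normalizer) (hΩn hTK)
  by_cases hcyc : IsCyclic K
  · obtain ⟨g, hg⟩ := IsCyclic.exists_ofOrder_eq_natCard (α := K)
    have hgq : g ^ q = 1 := Subtype.ext (hexp g g.2)
    have hK : Nat.card K = q := by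
      have h2 : Nat.card K ∣ q := hg ▸ orderOf_dvd_of_pow_eq_one hgq
      exact (hq.eq_one_or_self_of_dvd _ h2).resolve_left fun h => hKbot (Subgroup.card_eq_one.1 h)
    exact ext_of_prime hE hθ h1 hT2 K hK hq2 hTK fun x hx => hKfix hx
  -- the family of maximal subgroups
  have hspanK : ∀ P : Subgroup (MulAut E) → Prop, K ≤ stab (span K P) := fun P => le_stab fun g hg x hx => by
    refine span_apply hE (Subgroup.le_normalizer hg) (fun L hL hP => ?_) hx
    rwa [show L.map (MulAut.conj g).toMonoidHom = L from ?_]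
    refine le_antisymm ?_ fun l hl => ⟨l, hl, ?_⟩
    · rintro - ⟨l, hl, rfl⟩
      show g * l * g⁻¹ ∈ L
      rwa [hcomm g hg l (hL.1 hl), mul_inv_cancel_right]
    · show g * l * g⁻¹ = l
      rw [hcomm g hg l (hL.1 hl), mul_inv_cancel_right]
  obtain ⟨L, hL⟩ : ∃ L, Maxl K L := by
    by_contra hne
    push Not at hne
    refine hZne fun x _ => ?_
    have hb : fix (⊥ : Subgroup (MulAut E)) ≤ Subgroup.center E := by
      by_contra hb
      obtain ⟨L, hL, -⟩ := exists_maxl (K := K) bot_le hb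
      exact hne L hL
    exact hb fun s hs => by rw [Subgroup.mem_bot.1 hs, MulAut.one_apply]
  have hLb : L ≠ ⊥ := by
    intro hb
    obtain ⟨a, ha, ha1⟩ := SetLike.not_le_iff_exists.1 (fun hle : K ≤ ⊥ => hKbot (le_bot_iff.1 hle))
    -- otherwise all fixed subgroups are central
    refine hL.2.1 fun x hx => ?_
    obtain ⟨b, hb', hbn⟩ : ∃ b ∈ K, b ∉ Subgroup.zpowers a := by
      by_contra hh
      push Not at hh
      refine hcyc ⟨⟨⟨a, ha⟩, fun x => ?_⟩⟩
      obtain ⟨i, hi⟩ := hh x.1 x.2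
      exact ⟨i, Subtype.ext (by simpa using hi)⟩
    refine generated_by_fix hE hq2 (hcomm a ha b hb') (hexp a ha) (hexp b hb') L
      (hKodd.of_dvd_nat (Subgroup.card_dvd_of_le hL.1)) (fun s hs => hcomm s (hL.1 hs) a ha)
      (fun s hs => hcomm s (hL.1 hs) b hb') (by rw [hb]; exact ha1) (by rw [hb, bot_sup_eq]; exact hbn)
      _ le_rfl (fun c hc hcL => ?_) hx
    obtain ⟨i, j, rfl⟩ := hc
    refine hL.2.2 _ (sup_le hL.1 (Subgroup.zpowers_le.2 (K.mul_mem (K.pow_mem ha i) (K.pow_mem hb' j))))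
      (lt_of_le_of_ne le_sup_left fun e => hcL (e.symm ▸ Subgroup.mem_sup_right (Subgroup.mem_zpowers _)))
  let orb : Subgroup (MulAut E) → Subgroup (MulAut E) → Prop := fun U M =>
    ∃ g ∈ U, M = L.map (MulAut.conj g).toMonoidHom
  have hmm : ∀ (g g' : MulAut E) (M : Subgroup (MulAut E)),
      (M.map (MulAut.conj g).toMonoidHom).map (MulAut.conj g').toMonoidHom =
        M.map (MulAut.conj (g' * g)).toMonoidHom := fun g g' M => by
    rw [Subgroup.map_map, map_mul]
    rfl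
  have hid : ∀ M : Subgroup (MulAut E), M.map (MulAut.conj (1 : MulAut E)).toMonoidHom = M := fun M => by
    convert Subgroup.map_id M
    ext x
    simp
  have horb : ∀ {U : Subgroup (MulAut E)}, ∀ g ∈ U, ∀ M, orb U (M.map (MulAut.conj g).toMonoidHom) ↔ orb U M := by
    intro U g hg M
    constructor
    · rintro ⟨g', hg', e⟩
      refine ⟨g⁻¹ * g', U.mul_mem (U.inv_mem hg) hg', ?_⟩
      rw [← hmm, ← e, hmm, inv_mul_cancel, hid]
    · rintro ⟨g', hg', rfl⟩
      exact ⟨g * g', U.mul_mem hg hg', hmm g' g L⟩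
  have hLorb : ∀ U : Subgroup (MulAut E), orb U L := fun U => ⟨1, U.one_mem, (hid L).symm⟩
  have hstab : ∀ {U : Subgroup (MulAut E)}, U ≤ T → ∀ P : Subgroup (MulAut E) → Prop,
      (∀ g ∈ U, ∀ M, P (M.map (MulAut.conj g).toMonoidHom) ↔ P M) → U ≤ stab (span K P) :=
    fun {U} hU P hP => le_stab fun g hg x hx =>
      span_apply hE (hTK (hU hg)) (fun M _ hM => (hP g hg M).2 hM) hx
  by_cases hall : ∃ M, Maxl K M ∧ ¬ orb T M
  · exact ext_of_split hE ih h (family_split hE hq2 hKodd hcomm hexp hKfix (orb T) ⟨L, hL, hLorb T⟩ hall)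
      (hstab le_rfl _ fun g hg M => horb g hg M)
      (hstab le_rfl _ fun g hg M => not_congr (horb g hg M)) (hspanK _) (hspanK _) hθ h1
  push Not at hall
  -- a maximal subgroup of index two over the stabiliser
  let St := (Subgroup.normalizer (L : Set (MulAut E))).subgroupOf T
  have hSt : St ≠ ⊤ := fun e => by
    have hLK : L ≠ K := fun e' => hL.2.1 (e'.symm ▸ hKfix)
    refine hN L hL.1 hLb hLK ?_ fun g hg => ?_
    · intro g hg
      refine Subgroup.mem_normalizer_iff.2 fun y => ⟨fun hy => ?_, fun hy => ?_⟩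
      · rwa [hcomm g hg y (hL.1 hy), mul_inv_cancel_right]
      · have e2 : y = g⁻¹ * (g * y * g⁻¹) * g := by group
        rw [e2, hcomm g⁻¹ (K.inv_mem hg) _ (hL.1 hy), inv_mul_cancel_right]
        exact hy
    · have : (⟨g, hg⟩ : T) ∈ St := e ▸ Subgroup.mem_top _
      exact this
  obtain ⟨M₀, hM₀, hStM⟩ := (eq_top_or_exists_le_coatom St).resolve_left hSt
  have hidx : M₀.index = 2 := Cfsg.Agent.Solv.coatom_index hT2 hM₀
  set T₀ := M₀.map T.subtype with hT₀d
  have hT₀ : T₀ ≤ T := Subgroup.map_subtype_le M₀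
  have hsub : T₀.subgroupOf T = M₀ := by
    rw [hT₀d, Subgroup.subgroupOf, Subgroup.comap_map_eq_self_of_injective (Subgroup.subtype_injective T)]
  have hmem0 : ∀ g (hg : g ∈ T), g ∈ T₀ ↔ (⟨g, hg⟩ : T) ∈ M₀ := fun g hg => by
    rw [← hsub, Subgroup.mem_subgroupOf]
  obtain ⟨⟨t, ht⟩, -, htM⟩ := SetLike.not_le_iff_exists.1 (fun hle : (⊤ : Subgroup T) ≤ M₀ =>
    hM₀.1 (top_le_iff.1 hle))
  have htT₀ : t ∉ T₀ := fun h' => htM ((hmem0 t ht).1 h')
  have hflip : ∀ M, Maxl K M → (orb T₀ M ↔ ¬ orb T₀ (M.map (MulAut.conj t).toMonoidHom)) := by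
    intro M hM
    constructor
    · rintro ⟨g, hg, rfl⟩ ⟨g', hg', e⟩
      rw [hmm] at e
      have hgT := hT₀ hg
      have hg'T := hT₀ hg'
      have hn : g'⁻¹ * (t * g) ∈ Subgroup.normalizer (L : Set (MulAut E)) := by
        have e' : L.map (MulAut.conj (g'⁻¹ * (t * g))).toMonoidHom = L := by
          rw [← hmm, e, hmm, inv_mul_cancel, hid]
        refine Subgroup.mem_normalizer_iff.2 fun y => ⟨fun hy => e' ▸ ⟨y, hy, rfl⟩, fun hy => ?_⟩
        rw [← e'] at hy
        obtain ⟨y', hy', e2⟩ := hy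
        rwa [← (MulAut.conj (g'⁻¹ * (t * g))).injective (a₁ := y') (a₂ := y) e2]
      have h3 : (⟨g'⁻¹ * (t * g), T.mul_mem (T.inv_mem hg'T) (T.mul_mem ht hgT)⟩ : T) ∈ M₀ := hStM hn
      have h4 : g'⁻¹ * (t * g) ∈ T₀ := (hmem0 _ _).2 h3
      refine htT₀ ?_
      rw [show t = g' * (g'⁻¹ * (t * g)) * g⁻¹ by group]
      exact T₀.mul_mem (T₀.mul_mem hg' h4) (T₀.inv_mem hg)
    · intro hno
      obtain ⟨g, hg, rfl⟩ := hall M hM
      by_contra hno2
      have hg0 : g ∉ T₀ := fun h' => hno2 ⟨g, h', rfl⟩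
      refine hno ⟨t * g, ?_, hmm g t L⟩
      rw [hmem0 _ (T.mul_mem ht hg)]
      exact (Subgroup.mul_mem_iff_of_index_two hidx (a := (⟨t, ht⟩ : T)) (b := ⟨g, hg⟩)).2
        (iff_of_false htM (fun h' => hg0 ((hmem0 g hg).2 h')))
  have hs := family_split hE hq2 hKodd hcomm hexp hKfix (orb T₀) ⟨L, hL, hLorb T₀⟩
    ⟨_, maxl_conj hE (hTK ht) hL, (hflip L hL).1 (hLorb T₀)⟩
  refine ext_of_swap hE ih h hs hT₀ (hsub.symm ▸ hidx) (hstab hT₀ _ fun g hg M => horb g hg M)
    (hstab hT₀ _ fun g hg M => not_congr (horb g hg M)) (hspanK _) ht htT₀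
    (fun x hx => span_apply hE (hTK ht) (fun M hM hP => (hflip M hM).1 hP) hx)
    (fun x hx => span_apply hE (hTK ht) (fun M hM hP => ?_) hx) hθ h1
  by_contra h'
  exact hP ((hflip M hM).2 h')

/-- Extension over a two-group of automorphisms. -/
theorem exists_ext (hE : IsExtraspecial 2 E) {T K : Subgroup (MulAut E)} (h : Data T K) {θ : E → ℂ}
    (hθ : IsIrrCharacter E θ) (h1 : θ 1 ≠ 1) : ∃ f, Ext θ T f :=
  ext_main (Nat.card E + 1) (Nat.lt_succ_self _) hE T K h θ hθ h1

end Cfsg.Agent.Char.ExtraExt
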